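import Cfsg.Agent.Lib.Core.Solubilizer.Matrices

/-!
# The exact solvability conditions for a fixed normal form

* `solv_U_two`, `solv_U_three`, `solv_diag`, `solv_elliptic`, `solv_weyl`
-/

set_option autoImplicit false
set_option linter.all false

namespace CfsgLib.Core.Solubilizer

open Subgroup Matrix CfsgLib.PLocal.SLTwo CfsgLib.SL2Char
open scoped LinearAlgebra.Projectivization MatrixGroups

variable {F : Type*} [Field F] [Fintype F]

theorem commute_cases {X Y : S2 F} (h : pmk X * pmk Y = pmk Y * pmk X) :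
    X * Y = Y * X ∨ X * Y = -(Y * X) := by
  rw [← pmk_mul, ← pmk_mul, eq_comm, pmk_eq_iff] at h
  exact h

theorem two_ne_zero_three [CharP F 3] : (2 : F) ≠ 0 := by
  haveI : Fact (Nat.Prime 3) := ⟨Nat.prime_three⟩
  exact CfsgLib.Classical.Two.two_ne_zero_of_char (p := 3) (by norm_num)

theorem neg_one_eq_two [CharP F 3] : (2 : F) = -1 := by
  have h : ((3 : ℕ) : F) = 0 := CharP.cast_eq_zero F 3
  push_cast at h
  linear_combination h

theorem commute_of_pmk_of_tr_ne {X Y : S2 F} (hX : (2 : F) = 0 ∨ tr X ≠ 0)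
    (h : pmk X * pmk Y = pmk Y * pmk X) : X * Y = Y * X := by
  rcases commute_cases h with h | h
  · exact h
  rcases hX with h2 | ht
  · have hn : ∀ Z : S2 F, -Z = Z := fun Z => by
      have e : ∀ a : F, -a = a := fun a => by linear_combination -a * h2
      refine ext2 ?_ ?_ ?_ ?_ <;> simp [e]
    rw [h, hn]
  · by_cases h2 : (2 : F) = 0
    · have hn : ∀ Z : S2 F, -Z = Z := fun Z => by
        have e : ∀ a : F, -a = a := fun a => by linear_combination -a * h2
        refine ext2 ?_ ?_ ?_ ?_ <;> simp [e]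
      rw [h, hn]
    have hc : Y * X * Y⁻¹ = -X := by
      rw [mul_inv_eq_iff_eq_mul, neg_mul, h, neg_neg]
    have := tr_conj X Y
    rw [hc, CfsgLib.Known.SL2ClassSizes.tr_neg] at this
    exact absurd ((mul_eq_zero.1 (show (2 : F) * tr X = 0 by linear_combination -this)).resolve_left h2) ht

/-! ### Unipotent -/

@[simp] theorem U_00 (b : F) : (U b : S2 F).1 0 0 = 1 := rfl
@[simp] theorem U_01 (b : F) : (U b : S2 F).1 0 1 = b := rfl
@[simp] theorem U_10 (b : F) : (U b : S2 F).1 1 0 = 0 := rfl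
@[simp] theorem U_11 (b : F) : (U b : S2 F).1 1 1 = 1 := rfl

theorem U_mul_10 (b : F) (Y : S2 F) : (U b * Y).1 1 0 = Y.1 1 0 := by
  rw [m10, U_10, U_11, zero_mul, one_mul, zero_add]

theorem c_zero_of_U_mul {b : F} {Y : S2 F} (e : U b * Y = 1 ∨ U b * Y = -1) : Y.1 1 0 = 0 := by
  rw [← U_mul_10 b Y]
  rcases e with e | e <;> simp [e]

theorem U_commute_c {b : F} (hb : b ≠ 0) {Y : S2 F} (h : U b * Y = Y * U b) : Y.1 1 0 = 0 := by
  have := (commute_iff.1 h).1
  rw [U_01, U_10, mul_zero] at this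
  exact (mul_eq_zero.1 this).resolve_left hb

theorem U_eigen {b : F} (hb : b ≠ 0) {Y : S2 F}
    (h : ∃ pt : ℙ F (Fin 2 → F), pmk (U b) • pt = pt ∧ pmk Y • pt = pt) : Y.1 1 0 = 0 := by
  obtain ⟨v, μ, ν, hv, h1, h2⟩ := exists_common_eigen h
  have e0 := congrFun h1 0
  have e1 := congrFun h1 1
  have f1 := congrFun h2 1
  simp [mulVec, dotProduct, Fin.sum_univ_two] at e0 e1 f1
  have hv1 : v 1 = 0 := by
    by_contra hne
    have hμ : μ = 1 := mul_right_cancel₀ hne (by linear_combination -e1)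
    rw [hμ] at e0
    exact hne ((mul_eq_zero.1 (show b * v 1 = 0 by linear_combination e0)).resolve_left hb)
  have hv0 : v 0 ≠ 0 := fun h0 => hv (funext fun i => by fin_cases i <;> assumption)
  rw [hv1] at f1
  simpa [hv0] using f1

theorem tr_U (b : F) : tr (U b : S2 F) = 2 := by simp [tr, one_add_one_eq_two]

theorem tr_U_mul (b : F) (Y : S2 F) : tr (U b * Y) = tr Y + b * Y.1 1 0 := by
  simp only [tr, m00, m11, U_00, U_01, U_10, U_11]
  ring

theorem solv_U_two [CharP F 2] {r : ℕ} (hr : r.Prime) (hF : Fintype.card F = 2 ^ r) {b : F}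
    (hb : b ≠ 0) (Y : S2 F) :
    Solv (U b) Y ↔ Y.1 1 0 = 0 ∨ tr Y = 0 ∨ tr Y = b * Y.1 1 0 := by
  have h2 : (2 : F) = 0 := CharTwo.two_eq_zero
  constructor
  · intro h
    haveI : Fact (Nat.Prime 2) := ⟨Nat.prime_two⟩
    have ofY : pmk Y * pmk Y = 1 → Y.1 1 0 = 0 ∨ tr Y = 0 := fun hy => by
      rcases tr_zero_or_scalar hy with e | rfl | rfl
      · exact Or.inr e
      · left; simp
      · left; simp
    have ofXY : pmk (U b) * pmk Y * (pmk (U b) * pmk Y) = 1 →
        Y.1 1 0 = 0 ∨ tr Y = b * Y.1 1 0 := fun hxy => by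
      rcases tr_zero_or_scalar (Z := U b * Y) hxy with e | e | e
      · right
        rw [tr_U_mul] at e
        linear_combination e - (b * Y.1 1 0) * h2
      · exact Or.inl (c_zero_of_U_mul (Or.inl e))
      · exact Or.inl (c_zero_of_U_mul (Or.inr e))
    rcases solvable_pair_cases 2 r hr (Or.inl rfl) hF h with h | h | ⟨-, hy⟩ | ⟨-, hxy⟩ | ⟨hy, -⟩ | ⟨h, -⟩
    · exact Or.inl (U_commute_c hb (commute_of_pmk_of_tr_ne (Or.inl h2) h))
    · exact Or.inl (U_eigen hb h)
    · exact (ofY hy).imp id Or.inl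
    · exact (ofXY hxy).imp id Or.inr
    · exact (ofY hy).imp id Or.inl
    · omega
  · intro h
    have hX : pmk (U b) * pmk (U b) = 1 := pmk_sq_of_tr (by rw [tr_U, h2])
    rcases h with h | h | h
    · exact solv_of_upper (by simp) h
    · exact solv_of_involutions (Or.inl ⟨hX, pmk_sq_of_tr h⟩)
    · refine solv_of_involutions (Or.inr (Or.inl ⟨hX, pmk_sq_of_tr (Z := U b * Y) ?_⟩))
      rw [tr_U_mul, h]
      linear_combination (b * Y.1 1 0) * h2

theorem solv_U_three [CharP F 3] {r : ℕ} (hr : r.Prime) (ho : Odd r)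
    (hF : Fintype.card F = 3 ^ r) {b : F} (hb : b ≠ 0) (Y : S2 F) :
    Solv (U b) Y ↔ Y.1 1 0 = 0 ∨
      (tr Y = 0 ∨ tr Y = 1 ∨ tr Y = -1) ∧ (b * Y.1 1 0 = 1 ∨ b * Y.1 1 0 = -1) := by
  have h2 := two_ne_zero_three (F := F)
  have h3 := neg_one_eq_two (F := F)
  have hU : tr (U b : S2 F) = -1 := by rw [tr_U, h3]
  constructor
  · intro h
    haveI : Fact (Nat.Prime 3) := ⟨Nat.prime_three⟩
    have hXX : pmk (U b) * pmk (U b) ≠ 1 := fun he => by
      rcases tr_zero_or_scalar he with e | e | e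
      · rw [hU] at e; exact one_ne_zero (neg_eq_zero.1 e)
      · exact hb (U_injective (e.trans U_zero.symm))
      · exact hb (by simpa using congrArg (fun z : S2 F => z.1 0 1) e)
    rcases solvable_pair_cases 3 r hr (Or.inr ⟨rfl, ho⟩) hF h with h | h | ⟨hx, -⟩ | ⟨hx, -⟩ |
        ⟨hy, hxy⟩ | ⟨-, -, hy, hxy⟩
    · exact Or.inl (U_commute_c hb (commute_of_pmk_of_tr_ne (Or.inr (by rw [tr_U]; exact h2)) h))
    · exact Or.inl (U_eigen hb h)
    · exact absurd hx hXX
    · exact absurd hx hXX
    all_goals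
      have hs : Y.1 1 0 = 0 ∨ tr Y = 0 ∨ tr Y = 1 ∨ tr Y = -1 := by
        first
        | (rcases hy with hy | hy
           · rcases tr_zero_or_scalar hy with e | rfl | rfl
             · exact Or.inr (Or.inl e)
             · left; simp
             · left; simp
           · rcases tr_or_scalar_of_cube hy with e | rfl | rfl
             · exact Or.inr (Or.inr e)
             · left; simp
             · left; simp)
        | (rcases tr_zero_or_scalar hy with e | rfl | rfl
           · exact Or.inr (Or.inl e)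
           · left; simp
           · left; simp)
      have ht : Y.1 1 0 = 0 ∨ tr Y + b * Y.1 1 0 = 0 ∨ tr Y + b * Y.1 1 0 = 1 ∨
          tr Y + b * Y.1 1 0 = -1 := by
        rw [← tr_U_mul]
        first
        | (rcases hxy with hxy | hxy
           · rcases tr_zero_or_scalar (Z := U b * Y) hxy with e | e | e
             · exact Or.inr (Or.inl e)
             · exact Or.inl (c_zero_of_U_mul (Or.inl e))
             · exact Or.inl (c_zero_of_U_mul (Or.inr e))
           · rcases tr_or_scalar_of_cube (Z := U b * Y) hxy with e | e | e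
             · exact Or.inr (Or.inr e)
             · exact Or.inl (c_zero_of_U_mul (Or.inl e))
             · exact Or.inl (c_zero_of_U_mul (Or.inr e)))
        | (rcases tr_zero_or_scalar (Z := U b * Y) hxy with e | e | e
           · exact Or.inr (Or.inl e)
           · exact Or.inl (c_zero_of_U_mul (Or.inl e))
           · exact Or.inl (c_zero_of_U_mul (Or.inr e)))
      by_cases hc : Y.1 1 0 = 0
      · exact Or.inl hc
      refine Or.inr ⟨hs.resolve_left hc, ?_⟩
      have hbc : b * Y.1 1 0 ≠ 0 := mul_ne_zero hb hc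
      rcases hs.resolve_left hc with e | e | e <;> rw [e] at ht <;>
        rcases ht.resolve_left hc with f | f | f <;>
        first
        | (left; linear_combination f)
        | (right; linear_combination f)
        | (left; linear_combination f + h3)
        | (left; linear_combination f - h3)
        | (right; linear_combination f + h3)
        | (right; linear_combination f - h3)
        | exact absurd (by linear_combination f) hbc
  · rintro (h | ⟨hs, hc⟩)
    · exact solv_of_upper (by simp) h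
    have hz : tr (U b * Y⁻¹) = tr Y - b * Y.1 1 0 := by
      rw [tr_U_mul, CfsgLib.Known.SL2ClassSizes.tr_inv, i10]; ring
    refine solv_of_tetra hs ?_ (Or.inr ⟨Or.inr hU, ?_⟩)
    · rw [tr_U_mul]
      rcases hs with e | e | e <;> rcases hc with f | f <;> rw [e, f] <;>
        first
        | (left; linear_combination (0 : F))
        | (right; left; linear_combination (0 : F))
        | (right; right; linear_combination (0 : F))
        | (right; left; linear_combination h3)
        | (right; left; linear_combination -h3)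
        | (right; right; linear_combination h3)
        | (right; right; linear_combination -h3)
    · rw [tr_U_mul, hz]
      rcases hs with e | e | e <;> rcases hc with f | f <;> rw [e, f] <;>
        first
        | (left; rfl)
        | (right; left; linear_combination (0 : F))
        | (right; right; linear_combination (0 : F))

/-! ### Semisimple -/

theorem pmk_sq_cases_semisimple {ℓ r : ℕ} [Fact ℓ.Prime] [CharP F ℓ] (hr : r.Prime)
    (hℓ : ℓ = 2 ∨ (ℓ = 3 ∧ Odd r)) (hF : Fintype.card F = ℓ ^ r) {X Y : S2 F}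
    (hX2 : pmk X * pmk X ≠ 1) (hX3 : ℓ = 3 → pmk X * pmk X * pmk X ≠ 1) (h : Solv X Y) :
    X * Y = Y * X ∨ (∃ pt : ℙ F (Fin 2 → F), pmk X • pt = pt ∧ pmk Y • pt = pt) ∨
      (tr Y = 0 ∧ tr (X * Y) = 0) := by
  have htX : (2 : F) = 0 ∨ tr X ≠ 0 := Or.inr fun e => hX2 (pmk_sq_of_tr e)
  rcases solvable_pair_cases ℓ r hr hℓ hF h with h | h | ⟨hx, -⟩ | ⟨hx, -⟩ | ⟨hy, hxy⟩ | ⟨e, hx, -⟩
  · exact Or.inl (commute_of_pmk_of_tr_ne htX h)
  · exact Or.inr (Or.inl h)
  · exact absurd hx hX2
  · exact absurd hx hX2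
  · rcases tr_zero_or_scalar hy with e | rfl | rfl
    · rcases tr_zero_or_scalar (Z := X * Y) hxy with f | f | f
      · exact Or.inr (Or.inr ⟨e, f⟩)
      · left; rw [f, eq_inv_of_mul_eq_one_right f, inv_mul_cancel]
      · left
        have : Y = -X⁻¹ := by rw [← mul_right_inj X, f, mul_neg, mul_inv_cancel]
        rw [this, mul_neg, neg_mul, mul_inv_cancel, inv_mul_cancel]
    · left; simp
    · left; exact commute_neg_one X
  · exact absurd hx (fun hx => hx.elim hX2 (hX3 e))

theorem inverting_of_traces {X Y : S2 F} (h1 : tr Y = 0) (h2 : tr (X * Y) = 0) :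
    Y * X * Y⁻¹ = X⁻¹ := by
  have e1 := mul_self_eq_neg_one h1
  have e2 := mul_self_eq_neg_one h2
  have hYi : Y⁻¹ = -Y := by
    refine inv_eq_of_mul_eq_one_right ?_
    rw [mul_neg, e1, neg_neg]
  rw [hYi, mul_neg, ← mul_right_inj X, mul_neg, mul_inv_cancel, ← mul_assoc X, ← mul_assoc X,
    mul_assoc (X * Y) X Y, e2, neg_neg]

theorem solv_elliptic {ℓ r : ℕ} [Fact ℓ.Prime] [CharP F ℓ] (hr : r.Prime)
    (hℓ : ℓ = 2 ∨ (ℓ = 3 ∧ Odd r)) (hF : Fintype.card F = ℓ ^ r) {X : S2 F}
    (hX : Elliptic (X : Matrix (Fin 2) (Fin 2) F))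
    (hX2 : pmk X * pmk X ≠ 1) (hX3 : ℓ = 3 → pmk X * pmk X * pmk X ≠ 1) (Y : S2 F) :
    Solv X Y ↔ X * Y = Y * X ∨ Y * X * Y⁻¹ = X⁻¹ := by
  constructor
  · intro h
    rcases pmk_sq_cases_semisimple hr hℓ hF hX2 hX3 h with h | h | ⟨h1, h2⟩
    · exact Or.inl h
    · obtain ⟨v, μ, ν, hv, h1, -⟩ := exists_common_eigen h
      exact absurd h1 (hX μ v hv)
    · exact Or.inr (inverting_of_traces h1 h2)
  · rintro (h | h)
    · exact solv_of_commute h
    · exact solv_of_inverting h

theorem solv_diag {ℓ r : ℕ} [Fact ℓ.Prime] [CharP F ℓ] (hr : r.Prime)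
    (hℓ : ℓ = 2 ∨ (ℓ = 3 ∧ Odd r)) (hF : Fintype.card F = ℓ ^ r) {a : Fˣ}
    (ha : (a : F) ^ 2 ≠ 1) (hX2 : pmk (diagS a) * pmk (diagS a) ≠ 1)
    (hX3 : ℓ = 3 → pmk (diagS a) * pmk (diagS a) * pmk (diagS a) ≠ 1) (Y : S2 F) :
    Solv (diagS a) Y ↔ Y.1 0 1 = 0 ∨ Y.1 1 0 = 0 ∨ (Y.1 0 0 = 0 ∧ Y.1 1 1 = 0) := by
  constructor
  · intro h
    rcases pmk_sq_cases_semisimple hr hℓ hF hX2 hX3 h with h | h | ⟨h1, h2⟩
    · exact Or.inl ((mem_centralizer_diag (d := diagS a) rfl rfl ha Y).1
        (Subgroup.mem_centralizer_singleton_iff.2 h.symm)).1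
    · obtain ⟨v, μ, ν, hv, h1, h2⟩ := exists_common_eigen h
      have e0 := congrFun h1 0
      have e1 := congrFun h1 1
      have f0 := congrFun h2 0
      have f1 := congrFun h2 1
      simp [mulVec, dotProduct, Fin.sum_univ_two] at e0 e1 f0 f1
      by_cases hv0 : v 0 = 0
      · have hv1 : v 1 ≠ 0 := fun h0 => hv (funext fun i => by fin_cases i <;> assumption)
        rw [hv0] at f0
        left; simpa [hv1] using f0
      · have hμ : μ = a := (e0.resolve_right hv0).symm
        have hv1 : v 1 = 0 := by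
          rcases e1 with e1 | e1
          · exfalso
            apply ha
            rw [hμ] at e1
            rw [sq]
            calc (a : F) * a = a * (a : F)⁻¹ := by rw [e1]
              _ = 1 := mul_inv_cancel₀ a.ne_zero
          · exact e1
        rw [hv1] at f1
        right; left; simpa [hv0] using f1
    · right; right
      simp only [tr, m00, m11] at h1 h2
      simp at h2
      have hne : (a : F) - (a : F)⁻¹ ≠ 0 := fun e => ha (by
        rw [sq]
        calc (a : F) * a = a * (a : F)⁻¹ := by rw [← sub_eq_zero.1 e]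
          _ = 1 := mul_inv_cancel₀ a.ne_zero)
      have h0 : Y.1 0 0 = 0 :=
        (mul_eq_zero.1 (show ((a : F) - (a : F)⁻¹) * Y.1 0 0 = 0 by
          linear_combination h2 - (a : F)⁻¹ * h1)).resolve_left hne
      exact ⟨h0, by linear_combination h1 - h0⟩
  · rintro (h | h | ⟨h0, h1⟩)
    · exact solv_of_lower rfl h
    · exact solv_of_upper rfl h
    · exact solv_of_involutions (Or.inr (Or.inr ⟨pmk_sq_of_tr (by simp [tr, h0, h1]),
        pmk_sq_of_tr (Z := diagS a * Y) (by simp [tr, m00, m11, h0, h1])⟩))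

/-! ### The involution in characteristic three -/

theorem weylS_mul_entries (Y : S2 F) : tr (weylS * Y) = Y.1 1 0 - Y.1 0 1 := by
  simp [tr, m00, m11]; ring

theorem weylS_elliptic [CharP F 3] (h : ¬ IsSquare (-1 : F)) :
    Elliptic ((weylS : S2 F) : Matrix (Fin 2) (Fin 2) F) := by
  refine elliptic_iff.2 fun c e => h ⟨c, ?_⟩
  simp [weylS, Matrix.trace_fin_two, Matrix.det_fin_two] at e
  linear_combination -e

theorem solv_weyl [CharP F 3] {r : ℕ} (hr : r.Prime) (ho : Odd r)
    (hF : Fintype.card F = 3 ^ r) (hsq : ¬ IsSquare (-1 : F)) (Y : S2 F) :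
    Solv weylS Y ↔ weylS * Y = Y * weylS ∨ tr Y = 0 ∨ tr (weylS * Y) = 0 ∨
      ((tr Y = 1 ∨ tr Y = -1) ∧ (tr (weylS * Y) = 1 ∨ tr (weylS * Y) = -1)) := by
  haveI : Fact (Nat.Prime 3) := ⟨Nat.prime_three⟩
  have hW : tr (weylS : S2 F) = 0 := by simp [tr]
  constructor
  · intro h
    have ofY : pmk Y * pmk Y = 1 → weylS * Y = Y * weylS ∨ tr Y = 0 := fun hy => by
      rcases tr_zero_or_scalar hy with e | rfl | rfl
      · exact Or.inr e
      · left; simp
      · left; exact commute_neg_one _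
    have ofXY : pmk weylS * pmk Y * (pmk weylS * pmk Y) = 1 →
        weylS * Y = Y * weylS ∨ tr (weylS * Y) = 0 := fun hxy => by
      rcases tr_zero_or_scalar (Z := weylS * Y) hxy with e | e | e
      · exact Or.inr e
      · left; rw [e, eq_inv_of_mul_eq_one_right e, inv_mul_cancel]
      · left
        have : Y = -(weylS : S2 F)⁻¹ := by rw [← mul_right_inj (weylS : S2 F), e, mul_neg, mul_inv_cancel]
        rw [this, mul_neg, neg_mul, mul_inv_cancel, inv_mul_cancel]
    rcases solvable_pair_cases 3 r hr (Or.inr ⟨rfl, ho⟩) hF h with h | h | ⟨-, hy⟩ | ⟨-, hxy⟩ |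
        ⟨hy, -⟩ | ⟨-, -, hy, hxy⟩
    · rcases commute_cases h with h | h
      · exact Or.inl h
      · right; left
        have e0 := congrArg (fun z : S2 F => z.1 0 1) h
        simp [m01] at e0
        simp only [tr]
        linear_combination e0
    · obtain ⟨v, μ, ν, hv, h1, -⟩ := exists_common_eigen h
      exact absurd h1 (weylS_elliptic hsq μ v hv)
    · exact (ofY hy).imp id Or.inl
    · exact (ofXY hxy).imp id (fun e => Or.inr (Or.inl e))
    · exact (ofY hy).imp id Or.inl
    · rcases hy with hy | hy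
      · exact (ofY hy).imp id Or.inl
      rcases hxy with hxy | hxy
      · exact (ofXY hxy).imp id (fun e => Or.inr (Or.inl e))
      rcases tr_or_scalar_of_cube hy with e | rfl | rfl
      · rcases tr_or_scalar_of_cube (Z := weylS * Y) hxy with f | f | f
        · exact Or.inr (Or.inr (Or.inr ⟨e, f⟩))
        · left; rw [f, eq_inv_of_mul_eq_one_right f, inv_mul_cancel]
        · left
          have : Y = -(weylS : S2 F)⁻¹ := by rw [← mul_right_inj (weylS : S2 F), f, mul_neg, mul_inv_cancel]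
          rw [this, mul_neg, neg_mul, mul_inv_cancel, inv_mul_cancel]
      · left; simp
      · left; exact commute_neg_one _
  · rintro (h | h | h | ⟨hs, ht⟩)
    · exact solv_of_commute h
    · exact solv_of_involutions (Or.inl ⟨pmk_sq_of_tr hW, pmk_sq_of_tr h⟩)
    · exact solv_of_involutions (Or.inr (Or.inl ⟨pmk_sq_of_tr hW, pmk_sq_of_tr (Z := weylS * Y) h⟩))
    · exact solv_of_tetra (Or.inr hs) (Or.inr ht) (Or.inl hW)

end CfsgLib.Core.Solubilizer
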