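import Cfsg.Agent.Lib.Core.Solubilizer.Conditions

/-!
# Counting solubilisers in `SL₂` and `PSL₂`

* `solCard`, `solCard_mul_center`, `solCard_conj`
* `card_solv_U_two`, `card_solv_U_three`, `card_solv_diag`, `card_solv_elliptic`, `card_solv_weyl`
-/

set_option autoImplicit false
set_option linter.all false

namespace CfsgLib.Core.Solubilizer

open Subgroup Matrix CfsgLib.PLocal.SLTwo CfsgLib.SL2Char
open scoped MatrixGroups

variable {F : Type*} [Field F] [Fintype F]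

/-- The number of `y` generating a solvable group with `x`. -/
noncomputable def solCard (x : ProjectiveSpecialLinearGroup (Fin 2) F) : ℕ :=
  Nat.card {y : ProjectiveSpecialLinearGroup (Fin 2) F //
    Group.IsSolvable ↥(closure ({x, y} : Set (ProjectiveSpecialLinearGroup (Fin 2) F)))}

theorem solCard_conj (g x : ProjectiveSpecialLinearGroup (Fin 2) F) :
    solCard (g * x * g⁻¹) = solCard x := by
  refine (Nat.card_congr (Equiv.subtypeEquiv (MulAut.conj g).toEquiv fun y => ?_)).symm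
  constructor
  · intro h; exact isSolvable_closure_conj g x y h
  · intro h
    have := isSolvable_closure_conj g⁻¹ (g * x * g⁻¹) (g * y * g⁻¹) h
    rwa [show g⁻¹ * (g * x * g⁻¹) * g⁻¹⁻¹ = x by group,
      show g⁻¹ * (g * y * g⁻¹) * g⁻¹⁻¹ = y by group] at this

theorem solCard_mul_center (X : S2 F) :
    solCard (pmk X) * Nat.card (center (S2 F)) = Nat.card {Y : S2 F // Solv X Y} := by
  rw [solCard, mul_comm, ← Nat.card_prod]
  exact (Nat.card_congr (QuotientGroup.preimageMkEquivSubgroupProdSet (center (S2 F))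
    {y : ProjectiveSpecialLinearGroup (Fin 2) F |
      Group.IsSolvable ↥(closure ({pmk X, y} : Set (ProjectiveSpecialLinearGroup (Fin 2) F)))})).symm

theorem card_center_even [CharP F 2] : Nat.card (center (S2 F)) = 1 := by
  rw [Subgroup.card_eq_one, eq_bot_iff]
  intro z hz
  rcases (CfsgLib.Known.SL2ClassSizes.mem_center_iff' z).1 hz with rfl | rfl
  · exact one_mem _
  · refine mem_bot.2 (ext2 ?_ ?_ ?_ ?_) <;> simp [CharTwo.neg_eq]

theorem card_center_three [CharP F 3] : Nat.card (center (S2 F)) = 2 := by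
  haveI : Fact (Nat.Prime 3) := ⟨Nat.prime_three⟩
  rw [CfsgLib.Classical.card_center_SL, Fintype.card_fin]
  obtain ⟨n, -, hn⟩ := FiniteField.card F 3
  refine Nat.gcd_eq_left ?_
  have : ¬ 2 ∣ Fintype.card F := fun h => by
    rw [hn] at h
    have := Nat.prime_two.dvd_of_dvd_pow h
    omega
  have := Fintype.one_lt_card (α := F)
  omega

theorem card_or {α : Type*} [Finite α] (p q : α → Prop) :
    Nat.card {x // p x ∨ q x} = Nat.card {x // p x} + Nat.card {x // q x ∧ ¬ p x} := by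
  classical
  rw [← Nat.card_sum]
  refine Nat.card_congr ((Equiv.subtypeEquivRight fun x => ?_).trans
    (subtypeOrEquiv p (fun x => q x ∧ ¬ p x) ?_))
  · by_cases h : p x <;> simp [h]
  · rw [Pi.disjoint_iff]
    intro x
    simp [Prop.disjoint_iff]
    try exact fun h _ => h

theorem card_split {α : Type*} [Finite α] (p q : α → Prop) :
    Nat.card {x // q x} = Nat.card {x // q x ∧ p x} + Nat.card {x // q x ∧ ¬ p x} := by
  have := card_or (fun x => q x ∧ p x) q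
  rw [Nat.card_congr (Equiv.subtypeEquivRight (p := fun x => (q x ∧ p x) ∨ q x) (q := q)
    fun x => by tauto)] at this
  rw [this]
  congr 1
  exact Nat.card_congr (Equiv.subtypeEquivRight fun x => by tauto)

/-- Triangular matrices. -/
theorem card_c_zero :
    Nat.card {Y : S2 F // Y.1 1 0 = 0} = (Fintype.card F - 1) * Fintype.card F := by
  rw [← Nat.card_eq_fintype_card, ← Nat.card_units, ← Nat.card_prod]
  refine (Nat.card_congr (Equiv.ofBijective (fun x : Fˣ × F =>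
    (⟨⟨!![(x.1 : F), x.2; 0, ((x.1⁻¹ : Fˣ) : F)], by simp [Matrix.det_fin_two_of]⟩, rfl⟩ :
      {Y : S2 F // Y.1 1 0 = 0})) ⟨fun x y h => ?_, fun Y => ?_⟩)).symm
  · have h' := congrArg (fun Z : {Y : S2 F // Y.1 1 0 = 0} => (Z.1.1 0 0, Z.1.1 0 1)) h
    simp at h'
    exact Prod.ext (Units.ext h'.1) h'.2
  · have e := det2 Y.1
    rw [Y.2, mul_zero, sub_zero] at e
    refine ⟨(Units.mkOfMulEqOne _ _ e, Y.1.1 0 1), Subtype.ext (ext2 rfl rfl Y.2.symm ?_)⟩
    simp only [Matrix.of_apply, Matrix.cons_val', Matrix.cons_val_one]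
    exact Units.inv_eq_of_mul_eq_one_right e

/-- Prescribed lower left entry and trace. -/
theorem card_trace_c (P : Finset (F × F)) (hP : ∀ z ∈ P, z.2 ≠ 0) :
    Nat.card {Y : S2 F // (tr Y, Y.1 1 0) ∈ P} = P.card * Fintype.card F := by
  rw [← Nat.card_eq_fintype_card, ← Nat.card_eq_finsetCard, ← Nat.card_prod]
  let f : ↥P × F → S2 F := fun x =>
    ⟨!![x.2, (x.2 * (x.1.1.1 - x.2) - 1) / x.1.1.2; x.1.1.2, x.1.1.1 - x.2], by
      rw [Matrix.det_fin_two_of, div_mul_cancel₀ _ (hP _ x.1.2)]; ring⟩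
  have hf : ∀ x, (tr (f x), (f x).1 1 0) = x.1.1 := fun x => by
    refine Prod.ext ?_ rfl
    show x.2 + (x.1.1.1 - x.2) = x.1.1.1
    ring
  refine (Nat.card_congr (Equiv.ofBijective (fun x : ↥P × F =>
    (⟨f x, by rw [hf]; exact x.1.2⟩ : {Y : S2 F // (tr Y, Y.1 1 0) ∈ P}))
    ⟨fun x y h => ?_, fun Y => ?_⟩)).symm
  · have h1 := congrArg (fun Z : {Y : S2 F // (tr Y, Y.1 1 0) ∈ P} => Z.1) h
    simp only at h1
    refine Prod.ext (Subtype.ext ?_) ?_
    · rw [← hf x, h1, hf y]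
    · exact congrArg (fun Z : S2 F => Z.1 0 0) h1
  · refine ⟨(⟨_, Y.2⟩, Y.1.1 0 0), Subtype.ext (ext2 rfl ?_ rfl ?_)⟩
    · show (Y.1.1 0 0 * (tr Y.1 - Y.1.1 0 0) - 1) / Y.1.1 1 0 = Y.1.1 0 1
      rw [div_eq_iff (hP _ Y.2)]
      simp only [tr]
      linear_combination det2 Y.1
    · show tr Y.1 - Y.1.1 0 0 = Y.1.1 1 1
      simp [tr]

theorem card_solv_U_two [CharP F 2] {r : ℕ} (hr : r.Prime) (hF : Fintype.card F = 2 ^ r) {b : F}
    (hb : b ≠ 0) :
    Nat.card {Y : S2 F // Solv (U b) Y} = 3 * (Fintype.card F * (Fintype.card F - 1)) := by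
  classical
  rw [Nat.card_congr (Equiv.subtypeEquivRight (solv_U_two hr hF hb)),
    card_or (fun Y : S2 F => Y.1 1 0 = 0), card_c_zero]
  set P : Finset (F × F) := (Finset.univ.filter fun c : F => c ≠ 0).image (fun c => ((0 : F), c)) ∪
    (Finset.univ.filter fun c : F => c ≠ 0).image (fun c => (b * c, c)) with hP
  have hcard : P.card = 2 * (Fintype.card F - 1) := by
    rw [hP, Finset.card_union_of_disjoint, Finset.card_image_of_injective, Finset.card_image_of_injective,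
      Finset.filter_ne', Finset.card_erase_of_mem (Finset.mem_univ _), Finset.card_univ, two_mul]
    · intro x y h; exact congrArg Prod.snd h
    · intro x y h; exact congrArg Prod.snd h
    · rw [Finset.disjoint_left]
      intro z h1 h2
      simp at h1 h2
      obtain ⟨c, hc, rfl⟩ := h1
      obtain ⟨d, hd, hd'⟩ := h2
      exact mul_ne_zero hb hd (congrArg Prod.fst hd')
  have hmem : ∀ Y : S2 F, ((tr Y = 0 ∨ tr Y = b * Y.1 1 0) ∧ ¬ Y.1 1 0 = 0) ↔
      (tr Y, Y.1 1 0) ∈ P := fun Y => by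
    simp [hP]
    constructor
    · rintro ⟨h | h, h0⟩
      · exact Or.inl ⟨h0, h.symm⟩
      · exact Or.inr ⟨h0, h.symm⟩
    · rintro (⟨h0, h⟩ | ⟨h0, h⟩)
      · exact ⟨Or.inl h.symm, h0⟩
      · exact ⟨Or.inr h.symm, h0⟩
  rw [Nat.card_congr (Equiv.subtypeEquivRight hmem), card_trace_c P (fun z hz => by
    simp [hP] at hz
    rcases hz with ⟨c, hc, rfl⟩ | ⟨c, hc, rfl⟩ <;> exact hc), hcard]
  ring

theorem card_solv_U_three [CharP F 3] {r : ℕ} (hr : r.Prime) (ho : Odd r)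
    (hF : Fintype.card F = 3 ^ r) {b : F} (hb : b ≠ 0) :
    Nat.card {Y : S2 F // Solv (U b) Y} = Fintype.card F * (Fintype.card F + 5) := by
  classical
  have h2 := two_ne_zero_three (F := F)
  have h1 : (1 : F) ≠ -1 := fun e => h2 (by linear_combination e)
  rw [Nat.card_congr (Equiv.subtypeEquivRight (solv_U_three hr ho hF hb)),
    card_or (fun Y : S2 F => Y.1 1 0 = 0), card_c_zero]
  set P : Finset (F × F) := ({0, 1, -1} : Finset F) ×ˢ ({b⁻¹, -b⁻¹} : Finset F) with hP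
  have hcard : P.card = 6 := by
    have e1 : ({0, 1, -1} : Finset F).card = 3 := by
      rw [Finset.card_insert_of_notMem (by simp), Finset.card_pair h1]
    have e2 : ({b⁻¹, -b⁻¹} : Finset F).card = 2 := Finset.card_pair fun e => by
      refine h2 ((mul_eq_zero.1 (show (2 : F) * b⁻¹ = 0 by linear_combination e)).resolve_right ?_)
      exact inv_ne_zero hb
    rw [hP, Finset.card_product, e1, e2]
  have hmem : ∀ Y : S2 F, (((tr Y = 0 ∨ tr Y = 1 ∨ tr Y = -1) ∧
      (b * Y.1 1 0 = 1 ∨ b * Y.1 1 0 = -1)) ∧ ¬ Y.1 1 0 = 0) ↔ (tr Y, Y.1 1 0) ∈ P := fun Y => by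
    simp only [hP, Finset.mem_product, Finset.mem_insert, Finset.mem_singleton]
    constructor
    · rintro ⟨⟨hs, hc⟩, -⟩
      refine ⟨hs, hc.imp (fun e => eq_inv_of_mul_eq_one_right e) fun e => ?_⟩
      field_simp
      linear_combination e
    · rintro ⟨hs, hc⟩
      refine ⟨⟨hs, hc.imp (fun e => by rw [e, mul_inv_cancel₀ hb]) fun e => by
        rw [e, mul_neg, mul_inv_cancel₀ hb]⟩, ?_⟩
      rcases hc with e | e <;> rw [e] <;> simp [hb]
  rw [Nat.card_congr (Equiv.subtypeEquivRight hmem), card_trace_c P (fun z hz => by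
    simp only [hP, Finset.mem_product, Finset.mem_insert, Finset.mem_singleton] at hz
    rcases hz.2 with e | e <;> rw [e] <;> simp [hb]), hcard]
  obtain ⟨m, hm⟩ : ∃ m, Fintype.card F = m + 1 :=
    ⟨Fintype.card F - 1, by have := Fintype.card_pos (α := F); omega⟩
  rw [hm, Nat.add_sub_cancel]
  ring

theorem card_solv_diag {ℓ r : ℕ} [Fact ℓ.Prime] [CharP F ℓ] (hr : r.Prime)
    (hℓ : ℓ = 2 ∨ (ℓ = 3 ∧ Odd r)) (hF : Fintype.card F = ℓ ^ r) {a : Fˣ}
    (ha : (a : F) ^ 2 ≠ 1) (hX2 : pmk (diagS a) * pmk (diagS a) ≠ 1)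
    (hX3 : ℓ = 3 → pmk (diagS a) * pmk (diagS a) * pmk (diagS a) ≠ 1) :
    Nat.card {Y : S2 F // Solv (diagS a) Y} = 2 * (Fintype.card F * (Fintype.card F - 1)) := by
  have hiff : ∀ Y : S2 F, Solv (diagS a) Y ↔
      Y.1 1 0 = 0 ∨ (Y.1 0 1 = 0 ∨ (Y.1 0 0 = 0 ∧ Y.1 1 1 = 0)) := fun Y =>
    (solv_diag hr hℓ hF ha hX2 hX3 Y).trans or_left_comm
  rw [Nat.card_congr (Equiv.subtypeEquivRight hiff), card_or (fun Y : S2 F => Y.1 1 0 = 0),
    card_c_zero]
  rw [Nat.card_congr (Equiv.subtypeEquivRight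
    (p := fun Y : S2 F => (Y.1 0 1 = 0 ∨ (Y.1 0 0 = 0 ∧ Y.1 1 1 = 0)) ∧ ¬ Y.1 1 0 = 0)
    (q := fun Y : S2 F => (Y.1 0 1 = 0 ∧ ¬ Y.1 1 0 = 0) ∨ (Y.1 0 0 = 0 ∧ Y.1 1 1 = 0)) fun Y => ?_)]
  swap
  · constructor
    · rintro ⟨h | h, h0⟩
      · exact Or.inl ⟨h, h0⟩
      · exact Or.inr h
    · rintro (⟨h, h0⟩ | h)
      · exact ⟨Or.inl h, h0⟩
      · refine ⟨Or.inr h, fun h0 => one_ne_zero (α := F) ?_⟩
        have := det2 Y
        rw [h.1, h0] at this
        linear_combination -this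
  rw [card_or]
  have e1 : Nat.card {Y : S2 F // Y.1 0 1 = 0 ∧ ¬ Y.1 1 0 = 0} = Nat.card (Fˣ × Fˣ) := by
    refine (Nat.card_congr (Equiv.ofBijective (fun x : Fˣ × Fˣ =>
      (⟨⟨!![(x.1 : F), 0; (x.2 : F), ((x.1⁻¹ : Fˣ) : F)], by simp [Matrix.det_fin_two_of]⟩, rfl,
        x.2.ne_zero⟩ : {Y : S2 F // Y.1 0 1 = 0 ∧ ¬ Y.1 1 0 = 0})) ⟨fun x y h => ?_, fun Y => ?_⟩)).symm
    · have h' := congrArg (fun Z : {Y : S2 F // Y.1 0 1 = 0 ∧ ¬ Y.1 1 0 = 0} => (Z.1.1 0 0, Z.1.1 1 0)) h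
      simp at h'
      exact Prod.ext (Units.ext h'.1) (Units.ext h'.2)
    · have e := det2 Y.1
      rw [Y.2.1, zero_mul, sub_zero] at e
      refine ⟨(Units.mkOfMulEqOne _ _ e, Units.mk0 _ Y.2.2), Subtype.ext (ext2 rfl Y.2.1.symm rfl ?_)⟩
      simp only [Matrix.of_apply, Matrix.cons_val', Matrix.cons_val_one]
      exact Units.inv_eq_of_mul_eq_one_right e
  have e2 : Nat.card {Y : S2 F // (Y.1 0 0 = 0 ∧ Y.1 1 1 = 0) ∧ ¬ (Y.1 0 1 = 0 ∧ ¬ Y.1 1 0 = 0)} =
      Nat.card Fˣ := by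
    refine (Nat.card_congr (Equiv.ofBijective (fun x : Fˣ =>
      (⟨⟨!![0, -((x⁻¹ : Fˣ) : F); (x : F), 0], by simp [Matrix.det_fin_two_of]⟩, ⟨rfl, rfl⟩,
        fun h => (x⁻¹).ne_zero (by simpa using h.1)⟩ :
          {Y : S2 F // (Y.1 0 0 = 0 ∧ Y.1 1 1 = 0) ∧ ¬ (Y.1 0 1 = 0 ∧ ¬ Y.1 1 0 = 0)}))
      ⟨fun x y h => ?_, fun Y => ?_⟩)).symm
    · exact Units.ext (congrArg (fun Z : {Y : S2 F // (Y.1 0 0 = 0 ∧ Y.1 1 1 = 0) ∧
        ¬ (Y.1 0 1 = 0 ∧ ¬ Y.1 1 0 = 0)} => Z.1.1 1 0) h)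
    · have e := det2 Y.1
      rw [Y.2.1.1, Y.2.1.2, mul_zero, zero_sub] at e
      have e' : Y.1.1 1 0 * -(Y.1.1 0 1) = 1 := by linear_combination e
      refine ⟨Units.mkOfMulEqOne _ _ e', Subtype.ext (ext2 Y.2.1.1.symm ?_ rfl Y.2.1.2.symm)⟩
      simp only [Matrix.of_apply, Matrix.cons_val', Matrix.cons_val_one]
      exact neg_eq_iff_eq_neg.2 (Units.inv_eq_of_mul_eq_one_right e')
  rw [e1, e2, Nat.card_prod, Nat.card_units, Nat.card_eq_fintype_card]
  obtain ⟨m, hm⟩ : ∃ m, Fintype.card F = m + 1 :=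
    ⟨Fintype.card F - 1, by have := Fintype.card_pos (α := F); omega⟩
  rw [hm, Nat.add_sub_cancel]
  ring

theorem card_commute (X : S2 F) :
    Nat.card {Y : S2 F // X * Y = Y * X} = Nat.card (centralizer ({X} : Set (S2 F))) :=
  Nat.card_congr (Equiv.subtypeEquivRight fun Y => by
    rw [mem_centralizer_singleton_iff]; exact eq_comm)

theorem card_inverting {X w : S2 F} (hw : w * X * w⁻¹ = X⁻¹) :
    Nat.card {Y : S2 F // Y * X * Y⁻¹ = X⁻¹} = Nat.card (centralizer ({X} : Set (S2 F))) := by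
  refine (Nat.card_congr ((Equiv.mulLeft w).subtypeEquiv fun Y => ?_)).symm
  rw [Equiv.coe_mulLeft, mem_centralizer_singleton_iff]
  constructor
  · intro h
    rw [show w * Y * X * (w * Y)⁻¹ = w * (Y * X * Y⁻¹) * w⁻¹ by group, h, mul_inv_cancel_right, hw]
  · intro h
    rw [← mul_inv_eq_iff_eq_mul]
    have e : w * (Y * X * Y⁻¹) * w⁻¹ = w * X * w⁻¹ := by
      rw [hw, ← h]; group
    exact mul_left_cancel (mul_right_cancel e)

theorem card_solv_elliptic {ℓ r : ℕ} [Fact ℓ.Prime] [CharP F ℓ] (hr : r.Prime)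
    (hℓ : ℓ = 2 ∨ (ℓ = 3 ∧ Odd r)) (hF : Fintype.card F = ℓ ^ r) {X : S2 F}
    (hX : Elliptic (X : Matrix (Fin 2) (Fin 2) F))
    (hX2 : pmk X * pmk X ≠ 1) (hX3 : ℓ = 3 → pmk X * pmk X * pmk X ≠ 1) :
    Nat.card {Y : S2 F // Solv X Y} = 2 * (Fintype.card F + 1) := by
  obtain ⟨w, hw⟩ := exists_inverter hX
  rw [Nat.card_congr (Equiv.subtypeEquivRight (solv_elliptic hr hℓ hF hX hX2 hX3)),
    card_or (fun Y : S2 F => X * Y = Y * X), card_commute,
    Nat.card_congr (Equiv.subtypeEquivRight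
      (p := fun Y : S2 F => Y * X * Y⁻¹ = X⁻¹ ∧ ¬ X * Y = Y * X)
      (q := fun Y : S2 F => Y * X * Y⁻¹ = X⁻¹) fun Y => ⟨fun h => h.1, fun h => ⟨h, fun hc => ?_⟩⟩),
    card_inverting hw, card_centralizer_SL hX, two_mul]
  rw [← hc, mul_inv_cancel_right] at h
  apply hX2
  rw [← pmk_mul]
  rw [eq_inv_iff_mul_eq_one] at h
  rw [h]; rfl

/-! ### The involution in characteristic three -/

theorem card_trace_zero [CharP F 3] (hsq : ¬ IsSquare (-1 : F)) :
    Nat.card {Y : S2 F // tr Y = 0} * (Fintype.card F + 1) = Nat.card (S2 F) := by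
  have hW := weylS_elliptic (F := F) hsq
  rw [← card_centralizer_SL hW, ← (centralizer ({(weylS : S2 F)} : Set (S2 F))).index_mul_card,
    Subgroup.index_eq_card]
  congr 1
  have htr : ∀ h : S2 F, tr (h * weylS * h⁻¹) = 0 := fun h => by rw [tr_conj]; simp [tr]
  let f : S2 F ⧸ centralizer ({(weylS : S2 F)} : Set (S2 F)) → {Y : S2 F // tr Y = 0} :=
    Quotient.lift (fun h => ⟨h * weylS * h⁻¹, htr h⟩) fun a b hab => by
      have hab' := mem_centralizer_singleton_iff.1 (QuotientGroup.leftRel_apply.1 hab)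
      refine Subtype.ext ?_
      show a * weylS * a⁻¹ = b * weylS * b⁻¹
      calc a * weylS * a⁻¹ = a * (weylS * (a⁻¹ * b)) * b⁻¹ := by group
        _ = a * (a⁻¹ * b * weylS) * b⁻¹ := by rw [hab']
        _ = b * weylS * b⁻¹ := by group
  refine (Nat.card_congr (Equiv.ofBijective f ⟨?_, ?_⟩)).symm
  · intro a b
    induction a using QuotientGroup.induction_on with | _ a =>
    induction b using QuotientGroup.induction_on with | _ b =>
    intro h
    have h' : a * weylS * a⁻¹ = b * weylS * b⁻¹ := congrArg Subtype.val h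
    refine QuotientGroup.eq.mpr (mem_centralizer_singleton_iff.2 ?_)
    calc a⁻¹ * b * weylS = a⁻¹ * (b * weylS * b⁻¹) * b := by group
      _ = weylS * (a⁻¹ * b) := by rw [← h']; group
  · intro Y
    obtain ⟨h, hh⟩ := exists_conj_SL (y := Y.1) hW (by rw [Y.2]; simp [tr])
    exact ⟨QuotientGroup.mk h, Subtype.ext hh⟩

theorem inverting_weyl_iff (Y : S2 F) :
    Y * weylS * Y⁻¹ = (weylS : S2 F)⁻¹ ↔ tr Y = 0 ∧ tr (weylS * Y) = 0 := by
  rw [weylS_mul_entries, mul_inv_eq_iff_eq_mul]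
  constructor
  · intro h
    have e0 := congrArg (fun z : S2 F => z.1 0 1) h
    have e1 := congrArg (fun z : S2 F => z.1 1 1) h
    simp [m01, m11, i00, i01, i10, i11] at e0 e1
    constructor
    · simp only [tr]; linear_combination e0
    · linear_combination e1
  · rintro ⟨h1, h2⟩
    simp only [tr] at h1
    refine ext2 ?_ ?_ ?_ ?_ <;> simp [m00, m01, m10, m11, i00, i01, i10, i11]
    · linear_combination -h2
    · linear_combination h1
    · linear_combination -h1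
    · linear_combination h2

theorem card_weyl_special [CharP F 3] :
    Nat.card {Y : S2 F // weylS * Y = Y * weylS ∧ (tr Y = 0 ∨ tr (weylS * Y) = 0)} = 4 := by
  classical
  have h2 := two_ne_zero_three (F := F)
  have h1 : (1 : F) ≠ -1 := fun e => h2 (by linear_combination e)
  let S : Finset (S2 F) := {1, -1, weylS, -weylS}
  have hS : S.card = 4 := by
    have a : (1 : S2 F) ≠ -1 := fun e => h1 (by simpa using congrArg (fun z : S2 F => z.1 0 0) e)
    have b : (1 : S2 F) ≠ weylS := fun e => by simpa using congrArg (fun z : S2 F => z.1 0 0) e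
    have c : (1 : S2 F) ≠ -weylS := fun e => by simpa using congrArg (fun z : S2 F => z.1 0 0) e
    have d : (-1 : S2 F) ≠ weylS := fun e => by simpa using congrArg (fun z : S2 F => z.1 0 0) e
    have e' : (-1 : S2 F) ≠ -weylS := fun e => by simpa using congrArg (fun z : S2 F => z.1 0 0) e
    have f : (weylS : S2 F) ≠ -weylS := fun e =>
      h1 (by simpa using congrArg (fun z : S2 F => z.1 0 1) e)
    simp [S, a, b, c, d, e', f]
  rw [← hS, ← Nat.card_eq_finsetCard]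
  refine Nat.card_congr (Equiv.subtypeEquivRight fun Y => ?_)
  simp only [S, Finset.mem_insert, Finset.mem_singleton]
  rw [weylS_mul_entries]
  constructor
  · rintro ⟨hc, hor⟩
    have e0 := congrArg (fun z : S2 F => z.1 0 1) hc
    have e1 := congrArg (fun z : S2 F => z.1 0 0) hc
    simp [m00, m01] at e0 e1
    have hd := det2 Y
    simp only [tr] at hor
    rcases hor with h | h
    · have h00 : Y.1 0 0 = 0 :=
        (mul_eq_zero.1 (show (2 : F) * Y.1 0 0 = 0 by linear_combination h - e0)).resolve_left h2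
      rw [h00] at hd e0
      have hb : Y.1 0 1 * Y.1 0 1 = 1 := by linear_combination hd + (Y.1 0 1) * e1
      rcases mul_self_eq_one_iff.1 hb with f | f
      · refine Or.inr (Or.inr (Or.inl (ext2 ?_ ?_ ?_ ?_))) <;> simp [h00, f]
        · linear_combination e1 - f
        · linear_combination e0
      · refine Or.inr (Or.inr (Or.inr (ext2 ?_ ?_ ?_ ?_))) <;> simp [h00, f]
        · linear_combination e1 - f
        · linear_combination e0
    · have h01 : Y.1 0 1 = 0 :=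
        (mul_eq_zero.1 (show (2 : F) * Y.1 0 1 = 0 by linear_combination e1 - h)).resolve_left h2
      rw [h01] at hd e1
      have hb : Y.1 0 0 * Y.1 0 0 = 1 := by linear_combination hd - (Y.1 0 0) * e0
      rcases mul_self_eq_one_iff.1 hb with f | f
      · refine Or.inl (ext2 ?_ ?_ ?_ ?_) <;> simp [h01, f]
        · linear_combination e1
        · linear_combination e0 + f
      · refine Or.inr (Or.inl (ext2 ?_ ?_ ?_ ?_)) <;> simp [h01, f]
        · linear_combination e1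
        · linear_combination e0 + f
  · rintro (rfl | rfl | rfl | rfl)
    · exact ⟨by simp, Or.inr (by simp)⟩
    · exact ⟨commute_neg_one _, Or.inr (by simp)⟩
    · exact ⟨rfl, Or.inl (by simp [tr])⟩
    · exact ⟨by simp, Or.inl (by simp [tr])⟩

/-- The matrix with given entries. -/
def mk2 (a b c d : F) (h : a * d - b * c = 1) : S2 F :=
  ⟨!![a, b; c, d], by rw [Matrix.det_fin_two_of]; exact h⟩

@[simp] theorem mk2_00 (a b c d : F) (h) : (mk2 a b c d h).1 0 0 = a := rfl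
@[simp] theorem mk2_01 (a b c d : F) (h) : (mk2 a b c d h).1 0 1 = b := rfl
@[simp] theorem mk2_10 (a b c d : F) (h) : (mk2 a b c d h).1 1 0 = c := rfl
@[simp] theorem mk2_11 (a b c d : F) (h) : (mk2 a b c d h).1 1 1 = d := rfl

set_option maxHeartbeats 800000 in
theorem card_weyl_quad [CharP F 3] (s t : F) (hs : s = 1 ∨ s = -1) (ht : t = 1 ∨ t = -1) :
    Nat.card {Y : S2 F // tr Y = s ∧ tr (weylS * Y) = t} =
      Nat.card {Y : S2 F // weylS * Y = Y * weylS} := by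
  have h3 := neg_one_eq_two (F := F)
  have hss : s * s = 1 := by rcases hs with rfl | rfl <;> ring
  have htt : t * t = 1 := by rcases ht with rfl | rfl <;> ring
  have hC : ∀ Z : S2 F, weylS * Z = Z * weylS → Z.1 1 0 = -(Z.1 0 1) ∧ Z.1 1 1 = Z.1 0 0 := by
    intro Z h
    have e0 := congrArg (fun z : S2 F => z.1 0 1) h
    have e1 := congrArg (fun z : S2 F => z.1 0 0) h
    simp [m00, m01] at e0 e1
    exact ⟨by linear_combination e1, by linear_combination e0⟩
  refine (Nat.card_congr (Equiv.ofBijective (fun Z : {Y : S2 F // weylS * Y = Y * weylS} =>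
    (⟨mk2 (Z.1.1 0 0 - s) (Z.1.1 0 1 + t) ((Z.1.1 0 1 + t) + t) (s - (Z.1.1 0 0 - s)) (by
      have hd := det2 Z.1
      obtain ⟨c1, c2⟩ := hC _ Z.2
      rw [c1, c2] at hd
      linear_combination -hd + (Z.1.1 0 0 * s - Z.1.1 0 1 * t - s * s - t * t - 1) * h3 +
        (Z.1.1 0 0 * s - Z.1.1 0 1 * t) * h3 + (hss + htt) + (1 - Z.1.1 0 0 * s + Z.1.1 0 1 * t) * h3),
      (by simp [tr]), (by rw [weylS_mul_entries]; simp)⟩ :
        {Y : S2 F // tr Y = s ∧ tr (weylS * Y) = t})) ⟨fun Z Z' h => ?_, fun Y => ?_⟩)).symm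
  · have h' := congrArg (fun Z : {Y : S2 F // tr Y = s ∧ tr (weylS * Y) = t} =>
      (Z.1.1 0 0, Z.1.1 0 1)) h
    simp at h'
    obtain ⟨c1, c2⟩ := hC _ Z.2
    obtain ⟨d1, d2⟩ := hC _ Z'.2
    exact Subtype.ext (ext2 h'.1 h'.2 (by rw [c1, d1, h'.2]) (by rw [c2, d2, h'.1]))
  · obtain ⟨e1, e2⟩ := Y.2
    rw [weylS_mul_entries] at e2
    simp only [tr] at e1
    set Z : S2 F := mk2 (Y.1.1 0 0 + s) (Y.1.1 0 1 - t) (-(Y.1.1 0 1 - t)) (Y.1.1 0 0 + s) (by
      have hd := det2 Y.1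
      have e11 : Y.1.1 1 1 = s - Y.1.1 0 0 := by linear_combination e1
      have e10 : Y.1.1 1 0 = Y.1.1 0 1 + t := by linear_combination e2
      rw [e11, e10] at hd
      linear_combination -hd + (Y.1.1 0 0 * s - Y.1.1 0 1 * t) * h3 + hss + htt) with hZ
    refine ⟨⟨Z, ?_⟩, Subtype.ext (ext2 ?_ ?_ ?_ ?_)⟩
    · refine commute_iff.2 ⟨?_, ?_, ?_⟩ <;> simp [hZ]
    · simp [hZ]
    · simp [hZ]
    · simp [hZ]; linear_combination -e2
    · simp [hZ]; linear_combination -e1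

set_option maxHeartbeats 1000000 in
theorem card_solv_weyl [CharP F 3] {r : ℕ} (hr : r.Prime) (ho : Odd r)
    (hF : Fintype.card F = 3 ^ r) (hsq : ¬ IsSquare (-1 : F)) :
    Nat.card {Y : S2 F // Solv weylS Y} = 2 * (Fintype.card F * (Fintype.card F + 1)) := by
  classical
  have h2 := two_ne_zero_three (F := F)
  have h3 := neg_one_eq_two (F := F)
  have hW := weylS_elliptic (F := F) hsq
  have hC : Nat.card {Y : S2 F // weylS * Y = Y * weylS} = Fintype.card F + 1 :=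
    (card_commute _).trans (card_centralizer_SL hW)
  obtain ⟨w, hw⟩ := exists_inverter hW
  have hboth : Nat.card {Y : S2 F // tr Y = 0 ∧ tr (weylS * Y) = 0} = Fintype.card F + 1 := by
    rw [← Nat.card_congr (Equiv.subtypeEquivRight inverting_weyl_iff), card_inverting hw,
      card_centralizer_SL hW]
  have hA : Nat.card {Y : S2 F // tr Y = 0} = (Fintype.card F - 1) * Fintype.card F := by
    have h := card_trace_zero (F := F) hsq
    rw [CfsgLib.Classical.Two.card_SL_two, CfsgLib.Known.SL2ClassSizes.sq_sub_one,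
      mul_comm (Fintype.card F + 1), ← mul_assoc] at h
    rw [Nat.eq_of_mul_eq_mul_right (Nat.succ_pos _) h, mul_comm]
  have hT : Nat.card {Y : S2 F // tr (weylS * Y) = 0} = (Fintype.card F - 1) * Fintype.card F := by
    rw [← hA]
    exact Nat.card_congr ((Equiv.mulLeft weylS).subtypeEquiv fun Y => Iff.rfl)
  have hB : Nat.card {Y : S2 F // tr (weylS * Y) = 0 ∧ ¬ tr Y = 0} + (Fintype.card F + 1) =
      (Fintype.card F - 1) * Fintype.card F := by
    rw [← hT, card_split (fun Y : S2 F => tr Y = 0) (fun Y : S2 F => tr (weylS * Y) = 0), add_comm]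
    congr 1
    rw [← hboth]
    exact Nat.card_congr (Equiv.subtypeEquivRight fun Y => and_comm)
  have hC' : Nat.card {Y : S2 F // weylS * Y = Y * weylS ∧ ¬ (tr Y = 0 ∨ tr (weylS * Y) = 0)} + 4 =
      Fintype.card F + 1 := by
    rw [← hC, card_split (fun Y : S2 F => tr Y = 0 ∨ tr (weylS * Y) = 0)
      (fun Y : S2 F => weylS * Y = Y * weylS), card_weyl_special, add_comm]
  have hne : ∀ e : F, (e = 1 ∨ e = -1) → ¬ e = 0 := by
    rintro e (rfl | rfl) <;> simp
  have h11 : (1 : F) ≠ -1 := fun e => h2 (by linear_combination e)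
  have hD : Nat.card {Y : S2 F // (tr Y = 1 ∨ tr Y = -1) ∧
      (tr (weylS * Y) = 1 ∨ tr (weylS * Y) = -1)} = 4 * (Fintype.card F + 1) := by
    have q : ∀ s t : F, (s = 1 ∨ s = -1) → (t = 1 ∨ t = -1) →
        Nat.card {Y : S2 F // tr Y = s ∧ tr (weylS * Y) = t} = Fintype.card F + 1 :=
      fun s t hs ht => (card_weyl_quad s t hs ht).trans hC
    rw [card_split (fun Y : S2 F => tr Y = 1)
      (fun Y : S2 F => (tr Y = 1 ∨ tr Y = -1) ∧ (tr (weylS * Y) = 1 ∨ tr (weylS * Y) = -1))]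
    rw [Nat.card_congr (Equiv.subtypeEquivRight
      (p := fun Y : S2 F => ((tr Y = 1 ∨ tr Y = -1) ∧ (tr (weylS * Y) = 1 ∨ tr (weylS * Y) = -1)) ∧ tr Y = 1)
      (q := fun Y : S2 F => (tr Y = 1 ∧ tr (weylS * Y) = 1) ∨ (tr Y = 1 ∧ tr (weylS * Y) = -1))
      fun Y => by tauto)]
    rw [Nat.card_congr (Equiv.subtypeEquivRight
      (p := fun Y : S2 F => ((tr Y = 1 ∨ tr Y = -1) ∧ (tr (weylS * Y) = 1 ∨ tr (weylS * Y) = -1)) ∧ ¬ tr Y = 1)
      (q := fun Y : S2 F => (tr Y = -1 ∧ tr (weylS * Y) = 1) ∨ (tr Y = -1 ∧ tr (weylS * Y) = -1))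
      fun Y => ⟨fun h => by tauto, fun h => by
        have : ¬ tr Y = 1 := fun e => by rcases h with h | h <;> exact h11 (e.symm.trans h.1)
        tauto⟩)]
    have two : ∀ s : F, (s = 1 ∨ s = -1) → Nat.card {Y : S2 F //
        (tr Y = s ∧ tr (weylS * Y) = 1) ∨ (tr Y = s ∧ tr (weylS * Y) = -1)} =
        2 * (Fintype.card F + 1) := fun s hs => by
      rw [card_or, q s 1 hs (Or.inl rfl), Nat.card_congr (Equiv.subtypeEquivRight
        (p := fun Y : S2 F => (tr Y = s ∧ tr (weylS * Y) = -1) ∧ ¬ (tr Y = s ∧ tr (weylS * Y) = 1))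
        (q := fun Y : S2 F => tr Y = s ∧ tr (weylS * Y) = -1)
        fun Y => ⟨fun h => h.1, fun h => ⟨h, fun h' => h11 (h'.2.symm.trans h.2)⟩⟩),
        q s (-1) hs (Or.inr rfl), two_mul]
    rw [two 1 (Or.inl rfl), two (-1) (Or.inr rfl)]
    ring
  rw [Nat.card_congr (Equiv.subtypeEquivRight (solv_weyl hr ho hF hsq)),
    Nat.card_congr (Equiv.subtypeEquivRight
      (q := fun Y : S2 F => tr Y = 0 ∨ tr (weylS * Y) = 0 ∨
        weylS * Y = Y * weylS ∨
        ((tr Y = 1 ∨ tr Y = -1) ∧ (tr (weylS * Y) = 1 ∨ tr (weylS * Y) = -1))) fun Y => by tauto),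
    card_or, hA]
  rw [Nat.card_congr (Equiv.subtypeEquivRight
    (q := fun Y : S2 F => (tr (weylS * Y) = 0 ∧ ¬ tr Y = 0) ∨
      (weylS * Y = Y * weylS ∧ ¬ (tr Y = 0 ∨ tr (weylS * Y) = 0)) ∨
      ((tr Y = 1 ∨ tr Y = -1) ∧ (tr (weylS * Y) = 1 ∨ tr (weylS * Y) = -1))) fun Y => ?_)]
  swap
  · constructor
    · rintro ⟨h, h0⟩
      by_cases ht : tr (weylS * Y) = 0
      · exact Or.inl ⟨ht, h0⟩
      · tauto
    · intro h
      rcases h with ⟨h, h0⟩ | ⟨h, h0⟩ | h
      · exact ⟨Or.inl h, h0⟩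
      · exact ⟨Or.inr (Or.inl h), fun e => h0 (Or.inl e)⟩
      · exact ⟨Or.inr (Or.inr h), hne _ h.1⟩
  rw [card_or]
  rw [Nat.card_congr (Equiv.subtypeEquivRight
    (p := fun Y : S2 F => ((weylS * Y = Y * weylS ∧ ¬ (tr Y = 0 ∨ tr (weylS * Y) = 0)) ∨
      ((tr Y = 1 ∨ tr Y = -1) ∧ (tr (weylS * Y) = 1 ∨ tr (weylS * Y) = -1))) ∧
        ¬ (tr (weylS * Y) = 0 ∧ ¬ tr Y = 0))
    (q := fun Y : S2 F => (weylS * Y = Y * weylS ∧ ¬ (tr Y = 0 ∨ tr (weylS * Y) = 0)) ∨
      ((tr Y = 1 ∨ tr Y = -1) ∧ (tr (weylS * Y) = 1 ∨ tr (weylS * Y) = -1))) fun Y => ?_)]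
  swap
  · constructor
    · exact fun h => h.1
    · intro h
      refine ⟨h, fun h' => ?_⟩
      rcases h with ⟨-, h⟩ | ⟨-, h⟩
      · exact h (Or.inr h'.1)
      · exact hne _ h h'.1
  rw [card_or]
  rw [Nat.card_congr (Equiv.subtypeEquivRight
    (p := fun Y : S2 F =>
      ((tr Y = 1 ∨ tr Y = -1) ∧ (tr (weylS * Y) = 1 ∨ tr (weylS * Y) = -1)) ∧
        ¬ (weylS * Y = Y * weylS ∧ ¬ (tr Y = 0 ∨ tr (weylS * Y) = 0)))
    (q := fun Y : S2 F =>
      ((tr Y = 1 ∨ tr Y = -1) ∧ (tr (weylS * Y) = 1 ∨ tr (weylS * Y) = -1))) fun Y => ?_), hD]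
  swap
  · refine ⟨fun h => h.1, fun h => ⟨h, fun h' => h2 ?_⟩⟩
    obtain ⟨hs, ht⟩ := h
    have e0 := congrArg (fun z : S2 F => z.1 0 1) h'.1
    have e1 := congrArg (fun z : S2 F => z.1 0 0) h'.1
    simp [m00, m01] at e0 e1
    have hd := det2 Y
    have hss : tr Y ^ 2 = 1 := by rcases hs with e | e <;> rw [e] <;> ring
    have htt : tr (weylS * Y) ^ 2 = 1 := by rcases ht with e | e <;> rw [e] <;> ring
    rw [weylS_mul_entries] at htt
    simp only [tr] at hss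
    linear_combination hss + htt - 4 * hd -
      (Y.1 1 1 - Y.1 0 0) * e0 - (Y.1 1 0 + Y.1 0 1) * e1
  obtain ⟨m, hm⟩ : ∃ m, Fintype.card F = m + 1 :=
    ⟨Fintype.card F - 1, by have := Fintype.card_pos (α := F); omega⟩
  rw [hm, Nat.add_sub_cancel] at hB ⊢
  rw [hm] at hC'
  nlinarith [hB, hC']

end CfsgLib.Core.Solubilizer
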