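import Cfsg.Agent.Lib.Classical.Dickson.PlatonicIff
import Cfsg.Agent.Lib.Classical.PSLTwoSimple
import Cfsg.Agent.Lib.Recog.PSLTwoOrders

/-!
# When do two elements of `PSL(2, 2^r)` or `PSL(2, 3^r)` (`r` prime) generate a solvable group?

* `isSolvable_closure_pair_of_conj_mem`, `isSolvable_closure_pair_of_involutions`,
  `isSolvable_closure_pair_of_tetrahedral`: sufficient conditions in any finite group
* `solvable_pair_cases`: the necessary alternatives
-/

set_option autoImplicit false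
set_option linter.all false

namespace CfsgLib.Core.Solubilizer

open Subgroup Matrix

section Generic

variable {G : Type*} [Group G]

theorem isSolvable_of_comm_range_ker {Q : Type*} [Group Q] (f : G →* Q)
    (hr : ∀ a b : G, f a * f b = f b * f a) (hk : ∀ a ∈ f.ker, ∀ b ∈ f.ker, a * b = b * a) :
    Group.IsSolvable G := by
  haveI : Group.IsSolvable f.ker :=
    Group.isSolvable_of_comm fun a b => Subtype.ext (hk a a.2 b b.2)
  haveI : Group.IsSolvable f.range := Group.isSolvable_of_comm fun a b => by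
    obtain ⟨x, hx⟩ := a.2
    obtain ⟨y, hy⟩ := b.2
    refine Subtype.ext ?_
    simp only [Subgroup.coe_mul, ← hx, ← hy, hr x y]
  exact Group.isSolvable_of_ker_le_range f.ker.subtype f.rangeRestrict
    (by rw [f.ker_rangeRestrict, Subgroup.range_subtype])

/-- An abelian subgroup containing `x`, stable under conjugation by `y`. -/
theorem isSolvable_closure_pair [Finite G] {x y : G} (N : Subgroup G)
    (hc : ∀ a ∈ N, ∀ b ∈ N, a * b = b * a) (hx : x ∈ N) (hy : ∀ n ∈ N, y * n * y⁻¹ ∈ N) :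
    Group.IsSolvable (closure ({x, y} : Set G)) := by
  have hyN : y ∈ normalizer (N : Set G) :=
    mem_normalizer_fintype fun n hn => hy n hn
  set L := N ⊔ zpowers y with hL
  have hle : closure ({x, y} : Set G) ≤ L := by
    rw [closure_le]
    intro z hz
    simp only [Set.mem_insert_iff, Set.mem_singleton_iff] at hz
    rcases hz with rfl | rfl
    · exact mem_sup_left hx
    · exact mem_sup_right (mem_zpowers _)
  haveI : Group.IsSolvable L := by
    have hLN : L ≤ normalizer (N : Set G) := sup_le le_normalizer (zpowers_le.mpr hyN)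
    haveI : (N.subgroupOf L).Normal := normal_subgroupOf_of_le_normalizer hLN
    set π := QuotientGroup.mk' (N.subgroupOf L)
    have hpow : ∀ z : L, ∃ i : ℤ, π z = π ⟨y, mem_sup_right (mem_zpowers y)⟩ ^ i := by
      intro z
      have hz : (z : G) ∈ ((zpowers y ⊔ N : Subgroup G) : Set G) := by
        rw [sup_comm]; exact z.2
      rw [coe_mul_of_left_le_normalizer_right _ _ (zpowers_le.mpr hyN)] at hz
      obtain ⟨a, ⟨i, rfl⟩, n, hn, hzan⟩ := hz
      refine ⟨i, ?_⟩
      rw [← map_zpow]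
      refine QuotientGroup.eq.mpr ?_
      rw [mem_subgroupOf, Subgroup.coe_mul, Subgroup.coe_inv, SubgroupClass.coe_zpow]
      have hzn : y ^ i * n = (z : G) := hzan
      rw [← hzn, _root_.mul_inv_rev, mul_assoc, inv_mul_cancel, mul_one]
      exact N.inv_mem hn
    refine isSolvable_of_comm_range_ker π (fun a b => ?_) ?_
    · obtain ⟨i, hi⟩ := hpow a
      obtain ⟨j, hj⟩ := hpow b
      rw [hi, hj, ← _root_.zpow_add, ← _root_.zpow_add, add_comm]
    · intro a ha b hb
      rw [QuotientGroup.ker_mk', mem_subgroupOf] at ha hb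
      exact Subtype.ext (hc _ ha _ hb)
  exact Group.isSolvable_of_isSolvable_injective (Subgroup.inclusion_injective hle)

theorem isSolvable_closure_pair_of_conj_mem [Finite G] {x y : G}
    (h : y * x * y⁻¹ ∈ zpowers x) : Group.IsSolvable (closure ({x, y} : Set G)) := by
  refine isSolvable_closure_pair (zpowers x) ?_ (mem_zpowers x) ?_
  · rintro a ⟨i, rfl⟩ b ⟨j, rfl⟩
    exact (Commute.zpow_zpow_self x i j).eq
  · rintro n ⟨i, rfl⟩
    show y * x ^ i * y⁻¹ ∈ zpowers x
    rw [← conj_zpow]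
    exact zpow_mem h i

theorem closure_pair_le {x y : G} {K : Subgroup G} (hx : x ∈ K) (hy : y ∈ K) :
    closure ({x, y} : Set G) ≤ K := by
  rw [closure_le]
  intro z hz
  simp only [Set.mem_insert_iff, Set.mem_singleton_iff] at hz
  rcases hz with rfl | rfl
  · exact hx
  · exact hy

theorem isSolvable_closure_of_mem {x y a b : G}
    (h : Group.IsSolvable (closure ({a, b} : Set G))) (hx : x ∈ closure ({a, b} : Set G))
    (hy : y ∈ closure ({a, b} : Set G)) : Group.IsSolvable (closure ({x, y} : Set G)) :=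
  haveI := h
  Group.isSolvable_of_isSolvable_injective (Subgroup.inclusion_injective (closure_pair_le hx hy))

/-- Two elements of square one. -/
theorem isSolvable_closure_pair_of_involutions [Finite G] {x y : G} (hx : x * x = 1)
    (hy : y * y = 1) : Group.IsSolvable (closure ({x, y} : Set G)) := by
  have hxi : x⁻¹ = x := inv_eq_of_mul_eq_one_right hx
  have hyi : y⁻¹ = y := inv_eq_of_mul_eq_one_right hy
  have h : Group.IsSolvable (closure ({x * y, x} : Set G)) := by
    refine isSolvable_closure_pair_of_conj_mem ?_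
    have : x * (x * y) * x⁻¹ = (x * y)⁻¹ := by
      rw [_root_.mul_inv_rev, hxi, hyi, ← mul_assoc, hx, one_mul]
    rw [this]
    exact inv_mem (mem_zpowers _)
  have h1 : x * y ∈ closure ({x * y, x} : Set G) := subset_closure (Set.mem_insert _ _)
  have h2 : x ∈ closure ({x * y, x} : Set G) :=
    subset_closure (Set.mem_insert_of_mem _ (Set.mem_singleton x))
  refine isSolvable_closure_of_mem h h2 ?_
  simpa using mul_mem (inv_mem h2) h1

/-- The tetrahedral relations. -/
theorem isSolvable_closure_pair_of_tetrahedral [Finite G] {a b : G} (ha : a * a = 1)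
    (hb : b * b * b = 1) (hab : a * b * (a * b) * (a * b) = 1) :
    Group.IsSolvable (closure ({a, b} : Set G)) := by
  set c := b * a * b⁻¹ with hc
  set d := b * c * b⁻¹ with hd
  have hai : a⁻¹ = a := inv_eq_of_mul_eq_one_right ha
  have hcc : c * c = 1 := by
    rw [hc, show b * a * b⁻¹ * (b * a * b⁻¹) = b * (a * a) * b⁻¹ by group, ha, mul_one,
      mul_inv_cancel]
  have hdd : d * d = 1 := by
    rw [hd, show b * c * b⁻¹ * (b * c * b⁻¹) = b * (c * c) * b⁻¹ by group, hcc, mul_one,
      mul_inv_cancel]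
  have hb2 : b⁻¹ * b⁻¹ = b := by
    rw [← _root_.mul_inv_rev]
    exact inv_eq_of_mul_eq_one_right hb
  have hb2' : b * b = b⁻¹ := eq_inv_of_mul_eq_one_left hb
  have hacd : a * c * d = 1 := by
    calc a * c * d = a * b * a * b * a * (b⁻¹ * b⁻¹) := by rw [hd, hc]; group
      _ = 1 := by rw [hb2, ← hab]; group
  have hdval : d = (a * c)⁻¹ := eq_inv_of_mul_eq_one_right hacd
  have hcomm : a * c = c * a := by
    have hd' : d⁻¹ = d := inv_eq_of_mul_eq_one_right hdd
    have hci : c⁻¹ = c := inv_eq_of_mul_eq_one_right hcc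
    calc a * c = d := by rw [← hd', hdval, inv_inv]
      _ = c * a := by rw [hdval, _root_.mul_inv_rev, hai, hci]
  set N := closure ({a, c} : Set G) with hN
  haveI hNc : IsMulCommutative N := Subgroup.isMulCommutative_closure (by
    intro u hu v hv
    simp only [Set.mem_insert_iff, Set.mem_singleton_iff] at hu hv
    rcases hu with rfl | rfl <;> rcases hv with rfl | rfl <;>
      first | rfl | exact hcomm | exact hcomm.symm)
  have haN : a ∈ N := subset_closure (Set.mem_insert _ _)
  have hcN : c ∈ N := subset_closure (Set.mem_insert_of_mem _ (Set.mem_singleton _))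
  refine isSolvable_closure_pair N
    (fun u hu v hv => congrArg Subtype.val (hNc.is_comm.comm ⟨u, hu⟩ ⟨v, hv⟩)) haN ?_
  intro n hn
  refine Subgroup.closure_induction (p := fun z _ => b * z * b⁻¹ ∈ N) ?_ ?_ ?_ ?_ hn
  · intro z hz
    simp only [Set.mem_insert_iff, Set.mem_singleton_iff] at hz
    rcases hz with rfl | rfl
    · exact hcN
    · show d ∈ N
      rw [hdval]
      exact inv_mem (mul_mem haN hcN)
  · simp
  · intro u v _ _ hu hv
    simpa [conj_mul] using mul_mem hu hv
  · intro u _ hu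
    rw [← conj_inv]
    exact inv_mem hu

theorem closure_pair_comm_swap (x y : G) : closure ({x, y} : Set G) = closure ({y, x} : Set G) := by
  rw [Set.pair_comm]

end Generic

/-! ### Necessity -/

section Necessary

open CfsgLib.Classical.Dickson
open scoped LinearAlgebra.Projectivization MatrixGroups

variable {F : Type*} [Field F] [Fintype F]

theorem alt_four_involutions_comm :
    ∀ a b : alternatingGroup (Fin 4), a * a = 1 → b * b = 1 → a * b = b * a := by decide

/-- A copy of `A₄` in `PSL(2, 2^r)` fixes a point. -/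
theorem exists_fixed_of_alt_four [CharP F 2]
    (H : Subgroup (ProjectiveSpecialLinearGroup (Fin 2) F))
    (e : H ≃* alternatingGroup (Fin 4)) : ∃ x : ℙ F (Fin 2 → F), ∀ g ∈ H, g • x = x := by
  haveI : Fact (Nat.Prime 2) := ⟨Nat.prime_two⟩
  have hinv : ∀ a b : H, a * a = 1 → b * b = 1 → a * b = b * a := fun a b ha hb => e.injective (by
    rw [map_mul, map_mul]
    exact alt_four_involutions_comm _ _ (by rw [← map_mul, ha, map_one])
      (by rw [← map_mul, hb, map_one]))
  obtain ⟨u, hu⟩ := exists_prime_orderOf_dvd_card' (G := H) 2 (by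
    rw [Nat.card_congr e.toEquiv, nat_card_alternatingGroup, Nat.card_fin]
    decide)
  have huu : u * u = 1 := by rw [← sq]; exact orderOf_dvd_iff_pow_eq_one.mp hu.dvd
  have hu1 : ProjectiveSpecialLinearGroup.toPGL (u : ProjectiveSpecialLinearGroup (Fin 2) F) ≠ 1 :=
    fun h => by
      have : u = 1 := Subtype.ext (ProjectiveSpecialLinearGroup.toPGL_injective
        (h.trans (map_one _).symm))
      rw [this, orderOf_one] at hu
      omega
  obtain ⟨x₀, hx₀⟩ : ∃ x₀ : ℙ F (Fin 2 → F),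
      (u : ProjectiveSpecialLinearGroup (Fin 2) F) • x₀ = x₀ := by
    have hP : IsPGroup 2 (zpowers (u : ProjectiveSpecialLinearGroup (Fin 2) F)) :=
      IsPGroup.of_card (n := 1) (by rw [Nat.card_zpowers, Subgroup.orderOf_coe, hu, pow_one])
    obtain ⟨x₀, hx₀⟩ := hP.nonempty_fixed_point_of_prime_not_dvd_card (ℙ F (Fin 2 → F)) (by
      rw [CfsgLib.Classical.Two.card_line]
      intro h
      obtain ⟨f, hf, hqf⟩ := CfsgLib.Classical.exists_card_eq_prime_pow (F := F) 2
      have h2 : 2 ∣ Fintype.card F := hqf ▸ dvd_pow_self 2 (by omega)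
      exact Nat.prime_two.not_dvd_one ((Nat.dvd_add_right h2).1 h))
    exact ⟨x₀, hx₀ ⟨_, mem_zpowers _⟩⟩
  refine ⟨x₀, fun g hg => ?_⟩
  set P := ProjectiveSpecialLinearGroup.toPGL (n := Fin 2) (R := F)
  set v : H := ⟨g, hg⟩ * u * (⟨g, hg⟩ : H)⁻¹ with hv
  have hvv : v * v = 1 := by
    rw [hv, show ∀ w : H, w * u * w⁻¹ * (w * u * w⁻¹) = w * (u * u) * w⁻¹ from fun w => by group,
      huu, mul_one, mul_inv_cancel]
  have hvu := congrArg (fun z : H => P (z : ProjectiveSpecialLinearGroup (Fin 2) F))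
    (hinv v u hvv huu)
  simp only [Subgroup.coe_mul, map_mul] at hvu
  have hvP : P (v : ProjectiveSpecialLinearGroup (Fin 2) F) = P g * P u * (P g)⁻¹ := by
    simp [hv, map_mul, map_inv]
  have hu0 : P u • x₀ = x₀ := by rw [psl_smul]; exact hx₀
  have hv1 : P (v : ProjectiveSpecialLinearGroup (Fin 2) F) • (P g • x₀) = P g • x₀ := by
    rw [hvP, mul_smul, mul_smul, inv_smul_smul, hu0]
  have hv2 : P (v : ProjectiveSpecialLinearGroup (Fin 2) F) • (P u • (P g • x₀)) =
      P u • (P g • x₀) := by rw [← mul_smul, hvu, mul_smul, hv1]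
  have hv2' : P (v : ProjectiveSpecialLinearGroup (Fin 2) F) ^ 2 = 1 := by
    rw [← map_pow, ← Subgroup.coe_pow, sq, hvv, OneMemClass.coe_one, map_one]
  have hu2' : P (u : ProjectiveSpecialLinearGroup (Fin 2) F) ^ 2 = 1 := by
    rw [← map_pow, ← Subgroup.coe_pow, sq, huu, OneMemClass.coe_one, map_one]
  have h1 : P u • (P g • x₀) = P g • x₀ :=
    unip_fix_unique 2 hv2 hv1 hv2' (fun h => hu1 (conj_eq_one_iff.1 (hvP ▸ h)))
  rw [← psl_smul]
  exact unip_fix_unique 2 h1 hu0 hu2' hu1

theorem dihedral_cases {n : ℕ} (a b : DihedralGroup n) :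
    a * b = b * a ∨ (a * a = 1 ∧ b * b = 1) ∨ (a * a = 1 ∧ a * b * (a * b) = 1) ∨
      (b * b = 1 ∧ a * b * (a * b) = 1) := by
  rcases a with i | i <;> rcases b with j | j
  · exact Or.inl (by rw [DihedralGroup.r_mul_r, DihedralGroup.r_mul_r, add_comm])
  · exact Or.inr (Or.inr (Or.inr ⟨DihedralGroup.sr_mul_self j, by
      rw [DihedralGroup.r_mul_sr, DihedralGroup.sr_mul_self]⟩))
  · exact Or.inr (Or.inr (Or.inl ⟨DihedralGroup.sr_mul_self i, by
      rw [DihedralGroup.sr_mul_r, DihedralGroup.sr_mul_self]⟩))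
  · exact Or.inr (Or.inl ⟨DihedralGroup.sr_mul_self i, DihedralGroup.sr_mul_self j⟩)

theorem not_isSolvable_alt_five : ¬ Group.IsSolvable (alternatingGroup (Fin 5)) := fun h => by
  haveI : IsSimpleGroup (alternatingGroup (Fin 5)) := alternatingGroup.isSimpleGroup_five
  have hc := IsSimpleGroup.comm_iff_isSolvable.2 h
  exact absurd (hc
    ⟨Equiv.swap 0 1 * Equiv.swap 2 3, Equiv.Perm.mem_alternatingGroup.mpr (by decide +kernel)⟩
    ⟨Equiv.swap 0 2 * Equiv.swap 2 4, Equiv.Perm.mem_alternatingGroup.mpr (by decide +kernel)⟩)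
    (by decide +kernel)

theorem not_isSolvable_psl (h4 : 4 ≤ Fintype.card F) :
    ¬ Group.IsSolvable (ProjectiveSpecialLinearGroup (Fin 2) F) := fun h => by
  haveI := CfsgLib.Classical.isSimpleGroup_PSL_two (F := F) h4
  have hc := IsSimpleGroup.comm_iff_isSolvable.2 h
  haveI := h
  have hlt : commutator (ProjectiveSpecialLinearGroup (Fin 2) F) < ⊤ :=
    Group.IsSolvable.commutator_lt_top_of_nontrivial _
  have htop : commutator (ProjectiveSpecialLinearGroup (Fin 2) F) = ⊤ := by
    rw [commutator_def, ← Subgroup.map_top_of_surjective (QuotientGroup.mk' (Subgroup.center SL(2, F)))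
      (QuotientGroup.mk'_surjective _), ← Subgroup.map_commutator, ← commutator_def,
      CfsgLib.Classical.commutator_SL_two_eq_top h4]
  exact hlt.ne htop

/-- Every element order dividing `24` in `PSL(2, 3^r)`, `r` odd, is at most `3`. -/
theorem orderOf_small_of_three {r : ℕ} (hr : Odd r) (hr3 : 3 ≤ r) [CharP F 3]
    (hF : Fintype.card F = 3 ^ r) (g : ProjectiveSpecialLinearGroup (Fin 2) F)
    (hg : orderOf g ∣ 24) : g * g = 1 ∨ g * g * g = 1 := by
  haveI : Fact (Nat.Prime 3) := ⟨Nat.prime_three⟩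
  have h4 : 4 ≤ Fintype.card F := by
    rw [hF]; exact le_trans (by norm_num) (Nat.pow_le_pow_right (by norm_num) hr3)
  have h := (Set.ext_iff.1 (CfsgLib.Recog.PSLTwoOrders.range_orderOf (F := F) 3 h4) _).1 ⟨g, rfl⟩
  obtain ⟨k, rfl⟩ := hr
  have h8 : 3 ^ (2 * k + 1) % 8 = 3 := by
    rw [pow_succ, pow_mul, Nat.mul_mod, Nat.pow_mod]; norm_num
  have h3 : 3 ∣ 3 ^ (2 * k + 1) := dvd_pow_self 3 (by omega)
  have hgcd : Nat.gcd 2 (3 ^ (2 * k + 1) - 1) = 2 := Nat.gcd_eq_left (by omega)
  simp only [Set.mem_setOf_eq, hF, hgcd] at h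
  clear hgcd hF h4
  generalize 3 ^ (2 * k + 1) = X at h h8 h3
  obtain ⟨t, rfl⟩ : ∃ t, X = 8 * t + 3 := ⟨X / 8, by omega⟩
  rw [show (8 * t + 3 - 1) / 2 = 4 * t + 1 by omega,
    show (8 * t + 3 + 1) / 2 = 2 * (2 * t + 1) by omega] at h
  have ht3 : t % 3 = 0 := by omega
  rcases h with h | h | h
  · right
    have := pow_orderOf_eq_one g
    rw [h, pow_three, ← mul_assoc] at this
    exact this
  · left
    have hd : orderOf g ∣ 2 := by
      have hcop : Nat.Coprime (4 * t + 1) 24 := by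
        rw [show (24 : ℕ) = 2 ^ 3 * 3 by norm_num]
        refine Nat.Coprime.mul_right ((Nat.Coprime.pow_right 3) ?_) ?_
        · exact ((Nat.prime_two.coprime_iff_not_dvd).mpr (by omega)).symm
        · exact ((Nat.prime_three.coprime_iff_not_dvd).mpr (by omega)).symm
      rw [Nat.eq_one_of_dvd_coprimes hcop h hg]
      exact one_dvd 2
    rw [← sq]; exact orderOf_dvd_iff_pow_eq_one.mp hd
  · left
    have hd : orderOf g ∣ 2 := by
      have h' := Nat.dvd_gcd h hg
      obtain ⟨c, hc⟩ : ∃ c, c = 2 * t + 1 := ⟨_, rfl⟩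
      have hg2 : Nat.gcd (2 * (2 * t + 1)) 24 ∣ 2 := by
        rw [← hc, show (24 : ℕ) = 2 * 12 by norm_num, Nat.gcd_mul_left]
        have hcop : Nat.Coprime c 12 := by
          rw [show (12 : ℕ) = 2 ^ 2 * 3 by norm_num]
          refine Nat.Coprime.mul_right ((Nat.Coprime.pow_right 2) ?_) ?_
          · exact ((Nat.prime_two.coprime_iff_not_dvd).mpr (by omega)).symm
          · exact ((Nat.prime_three.coprime_iff_not_dvd).mpr (by omega)).symm
        rw [hcop.gcd_eq_one, mul_one]
      exact h'.trans hg2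
    rw [← sq]; exact orderOf_dvd_iff_pow_eq_one.mp hd

/-- If two elements of `PSL(2, ℓ^r)` (`r` prime, `ℓ = 2`, or `ℓ = 3` with `r` odd) generate a
solvable group then they commute, have a common fixed point, two of `x, y, xy` square to one, or
`ℓ = 3` and each of `x, y, xy` has order at most `3`. -/
theorem solvable_pair_cases (ℓ r : ℕ) [Fact ℓ.Prime] [CharP F ℓ] (hr : r.Prime)
    (hℓ : ℓ = 2 ∨ (ℓ = 3 ∧ Odd r)) (hF : Fintype.card F = ℓ ^ r)
    {x y : ProjectiveSpecialLinearGroup (Fin 2) F}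
    (h : Group.IsSolvable (closure ({x, y} : Set (ProjectiveSpecialLinearGroup (Fin 2) F)))) :
    x * y = y * x ∨ (∃ pt : ℙ F (Fin 2 → F), x • pt = pt ∧ y • pt = pt) ∨
      (x * x = 1 ∧ y * y = 1) ∨ (x * x = 1 ∧ x * y * (x * y) = 1) ∨
      (y * y = 1 ∧ x * y * (x * y) = 1) ∨
      (ℓ = 3 ∧ (x * x = 1 ∨ x * x * x = 1) ∧ (y * y = 1 ∨ y * y * y = 1) ∧
        (x * y * (x * y) = 1 ∨ x * y * (x * y) * (x * y) = 1)) := by
  set H := closure ({x, y} : Set (ProjectiveSpecialLinearGroup (Fin 2) F)) with hH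
  have hxH : x ∈ H := subset_closure (Set.mem_insert _ _)
  have hyH : y ∈ H := subset_closure (Set.mem_insert_of_mem _ (Set.mem_singleton _))
  have hr3 : ℓ = 3 → 3 ≤ r := fun e => by
    rcases hℓ with h' | ⟨-, ⟨k, hk⟩⟩
    · omega
    · have := hr.two_le; omega
  have h4 : 4 ≤ Fintype.card F := by
    rw [hF]
    exact le_trans (show 4 ≤ ℓ ^ 2 by
      have := (Fact.out : ℓ.Prime).two_le
      nlinarith) (Nat.pow_le_pow_right (Fact.out : ℓ.Prime).pos hr.two_le)
  have small : ℓ = 3 → Nat.card H ∣ 24 → (x * x = 1 ∨ x * x * x = 1) ∧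
      (y * y = 1 ∨ y * y * y = 1) ∧
        (x * y * (x * y) = 1 ∨ x * y * (x * y) * (x * y) = 1) := by
    intro e hd
    subst e
    have ho : Odd r := (hℓ.resolve_left (by norm_num)).2
    have key : ∀ g ∈ H, g * g = 1 ∨ g * g * g = 1 := fun g hg =>
      orderOf_small_of_three ho (hr3 rfl) hF g ((Subgroup.orderOf_dvd_natCard _ hg).trans hd)
    exact ⟨key x hxH, key y hyH, key _ (mul_mem hxH hyH)⟩
  have ofA4 : ∀ e : H ≃* alternatingGroup (Fin 4), ℓ = 2 →
      ∃ pt : ℙ F (Fin 2 → F), x • pt = pt ∧ y • pt = pt := fun e hl => by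
    subst hl
    obtain ⟨pt, hpt⟩ := exists_fixed_of_alt_four H e
    exact ⟨pt, hpt x hxH, hpt y hyH⟩
  rcases subgroup_cases ℓ hF H with ⟨hc, -, -⟩ | ⟨-, pt, hpt⟩ | ⟨n, -, -, -, ⟨e⟩⟩ | ⟨⟨e⟩⟩ | ⟨⟨e⟩⟩ |
      ⟨⟨e⟩⟩ | ⟨a, m, ha3, ham, ha, hsub⟩
  · exact Or.inl (congrArg Subtype.val (IsCyclic.commGroup.mul_comm (⟨x, hxH⟩ : H) ⟨y, hyH⟩))
  · exact Or.inr (Or.inl ⟨pt, hpt x hxH, hpt y hyH⟩)
  · set X : H := ⟨x, hxH⟩
    set Y : H := ⟨y, hyH⟩
    have back : ∀ A B : H, e A = e B → (A : ProjectiveSpecialLinearGroup (Fin 2) F) = B :=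
      fun A B hAB => congrArg Subtype.val (e.injective hAB)
    rcases dihedral_cases (e X) (e Y) with h' | ⟨h1, h2⟩ | ⟨h1, h2⟩ | ⟨h1, h2⟩
    · exact Or.inl (back (X * Y) (Y * X) (by simpa using h'))
    · exact Or.inr (Or.inr (Or.inl ⟨back (X * X) 1 (by simpa using h1),
        back (Y * Y) 1 (by simpa using h2)⟩))
    · exact Or.inr (Or.inr (Or.inr (Or.inl ⟨back (X * X) 1 (by simpa using h1),
        back (X * Y * (X * Y)) 1 (by simpa using h2)⟩)))
    · exact Or.inr (Or.inr (Or.inr (Or.inr (Or.inl ⟨back (Y * Y) 1 (by simpa using h1),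
        back (X * Y * (X * Y)) 1 (by simpa using h2)⟩))))
  · rcases hℓ with hl | ⟨hl, -⟩
    · exact Or.inr (Or.inl (ofA4 e hl))
    · refine Or.inr (Or.inr (Or.inr (Or.inr (Or.inr ⟨hl, small hl ?_⟩))))
      rw [Nat.card_congr e.toEquiv, nat_card_alternatingGroup, Nat.card_fin]
      decide
  · rcases hℓ with hl | ⟨hl, -⟩
    · exfalso
      have h16 := (perm_four_iff hF).mp ⟨H, ⟨e⟩⟩
      subst hl
      have : 2 ∣ (2 ^ r) ^ 2 := dvd_pow (dvd_pow_self 2 hr.ne_zero) two_ne_zero
      omega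
    · refine Or.inr (Or.inr (Or.inr (Or.inr (Or.inr ⟨hl, small hl ?_⟩))))
      rw [Nat.card_congr e.toEquiv, Nat.card_perm, Nat.card_fin]
      decide
  · haveI := h
    exact absurd (Group.isSolvable_of_surjective (f := (e : H →* _)) e.surjective)
      not_isSolvable_alt_five
  · rw [← pow_mul] at ham
    have hamr : a * m = r := Nat.pow_right_injective (Fact.out : ℓ.Prime).two_le ham
    rcases hr.eq_one_or_self_of_dvd a ⟨m, hamr.symm⟩ with rfl | rfl
    · rcases hℓ with rfl | ⟨rfl, -⟩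
      · omega
      · refine Or.inr (Or.inr (Or.inr (Or.inr (Or.inr ⟨rfl, small rfl ?_⟩))))
        rcases hsub with ⟨hc, -⟩ | ⟨-, hc, -⟩
        · rw [hc]; norm_num
        · have : Nat.card H = 12 := by norm_num at hc; omega
          rw [this]; norm_num
    · exfalso
      have hG := CfsgLib.Classical.Two.card_PSL_two (F := F)
      rw [hF] at hG
      have hle : Nat.card H ≤ Nat.card (ProjectiveSpecialLinearGroup (Fin 2) F) :=
        Subgroup.card_le_card_group H
      have hHpos : 0 < Nat.card H := Nat.card_pos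
      have heq : Nat.card H = Nat.card (ProjectiveSpecialLinearGroup (Fin 2) F) := by
        rcases hsub with ⟨hc, -⟩ | ⟨hl2, hc, -⟩
        · refine le_antisymm hle ?_
          rw [hc, ← hG]
          exact Nat.le_mul_of_pos_left _ (Nat.gcd_pos_of_pos_left _ two_pos)
        · have hodd : ¬ 2 ∣ ℓ ^ a := fun hd =>
            hl2 ((Nat.prime_dvd_prime_iff_eq Nat.prime_two Fact.out).mp
              (Nat.prime_two.dvd_of_dvd_pow hd)).symm
          have h1 : 1 ≤ ℓ ^ a := Nat.one_le_pow _ _ (Fact.out : ℓ.Prime).pos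
          rw [Nat.gcd_eq_left (show 2 ∣ ℓ ^ a - 1 by omega), ← hc] at hG
          omega
      have htop : H = ⊤ := (Subgroup.card_eq_iff_eq_top H).mp heq
      rw [htop] at h
      exact not_isSolvable_psl h4
        (haveI := h; Group.isSolvable_of_surjective (f := ((topEquiv : (⊤ : Subgroup (ProjectiveSpecialLinearGroup (Fin 2) F)) ≃* _) :
          (⊤ : Subgroup (ProjectiveSpecialLinearGroup (Fin 2) F)) →* _)) topEquiv.surjective)

end Necessary

end CfsgLib.Core.Solubilizer
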