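import Cfsg.Agent.Lib.Core.Solubilizer.Counting

/-!
# Sizes of solubilisers in `PSL(2, 2^p)` and `PSL(2, 3^p)`

* `solubilizer_card_two`, `solubilizer_card_three`
-/

set_option autoImplicit false
set_option linter.all false

namespace CfsgLib.Core.Solubilizer

open Subgroup Matrix CfsgLib.PLocal.SLTwo CfsgLib.SL2Char
open scoped MatrixGroups

variable {F : Type*} [Field F] [Fintype F]

theorem orderOf_pmk_U_dvd (ℓ : ℕ) [CharP F ℓ] (b : F) : orderOf (pmk (U b)) ∣ ℓ := by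
  refine orderOf_dvd_of_pow_eq_one ?_
  show (QuotientGroup.mk' (center (S2 F))) (U b) ^ ℓ = 1
  rw [← map_pow, U_pow, CharP.cast_eq_zero, zero_mul, U_zero, map_one]

theorem orderOf_pmk_diag_dvd {a : Fˣ} (ha : (a : F) ^ 2 ≠ 1) :
    orderOf (pmk (diagS a)) ∣ Fintype.card F - 1 := by
  refine dvd_trans (orderOf_map_dvd (QuotientGroup.mk' (center (S2 F))) (diagS a)) ?_
  have h := Subgroup.orderOf_dvd_natCard (centralizer ({diagS a} : Set (S2 F)))
    (mem_centralizer_singleton_iff.2 rfl)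
  rwa [CfsgLib.Known.SL2ClassSizes.card_diagS ha] at h

theorem orderOf_pmk_elliptic_dvd {X : S2 F} (hX : Elliptic (X : Matrix (Fin 2) (Fin 2) F)) :
    orderOf (pmk X) ∣ Fintype.card F + 1 := by
  refine dvd_trans (orderOf_map_dvd (QuotientGroup.mk' (center (S2 F))) X) ?_
  have h := Subgroup.orderOf_dvd_natCard (centralizer ({X} : Set (S2 F)))
    (mem_centralizer_singleton_iff.2 rfl)
  rwa [card_centralizer_SL hX] at h

/-- Normal forms of a nontrivial element. -/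
theorem psl_cases (x : ProjectiveSpecialLinearGroup (Fin 2) F) (hx : x ≠ 1) :
    (∃ (g : ProjectiveSpecialLinearGroup (Fin 2) F) (b : F), b ≠ 0 ∧ g * x * g⁻¹ = pmk (U b)) ∨
    (∃ (g : ProjectiveSpecialLinearGroup (Fin 2) F) (a : Fˣ), (a : F) ^ 2 ≠ 1 ∧
      g * x * g⁻¹ = pmk (diagS a)) ∨
    (∃ X : S2 F, Elliptic (X : Matrix (Fin 2) (Fin 2) F) ∧ x = pmk X) := by
  induction x using QuotientGroup.induction_on with | _ X =>
  rcases CfsgLib.Known.SL2ClassSizes.cases_conj X with h | ⟨h, b, hb, hc⟩ | ⟨h, a, ha, hc⟩ | he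
  · exact absurd (pmk_eq_one.2 h) hx
  · refine Or.inl ⟨pmk h, b, hb, ?_⟩
    rcases hc with hc | hc
    · exact congrArg pmk hc
    · exact (congrArg pmk hc).trans (pmk_eq_iff.2 (Or.inr (neg_neg (U b)).symm))
  · exact Or.inr (Or.inl ⟨pmk h, a, ha, congrArg pmk hc⟩)
  · exact Or.inr (Or.inr ⟨X, he, rfl⟩)

theorem orderOf_conj' {G : Type*} [Group G] (g x : G) : orderOf (g * x * g⁻¹) = orderOf x :=
  (MulEquiv.orderOf_eq (MulAut.conj g) x)

theorem sq_ne_one_of_orderOf {G : Type*} [Group G] {x : G} (hx : x ≠ 1) (h2 : orderOf x ≠ 2) :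
    x * x ≠ 1 := fun h => h2 (orderOf_eq_prime (by rw [sq]; exact h) hx)

theorem cube_ne_one_of_orderOf {G : Type*} [Group G] {x : G} (hx : x ≠ 1) (h3 : orderOf x ≠ 3) :
    x * x * x ≠ 1 := fun h => h3 (orderOf_eq_prime (by rw [pow_three, ← mul_assoc]; exact h) hx)

theorem solubilizer_card_two {p : ℕ} (hp : p.Prime) (hF : Fintype.card F = 2 ^ p)
    (x : ProjectiveSpecialLinearGroup (Fin 2) F) :
    (orderOf x = 2 → solCard x = 3 * 2 ^ p * (2 ^ p - 1)) ∧
    (x ≠ 1 → orderOf x ∣ 2 ^ p - 1 → solCard x = 2 * 2 ^ p * (2 ^ p - 1)) ∧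
    (x ≠ 1 → orderOf x ∣ 2 ^ p + 1 → solCard x = 2 * (2 ^ p + 1)) := by
  haveI : Fact (Nat.Prime 2) := ⟨Nat.prime_two⟩
  haveI : CharP F 2 := charP_of_card_eq_prime_pow hF
  have hq : 2 ∣ 2 ^ p := dvd_pow_self 2 hp.ne_zero
  have hq4 : 4 ≤ 2 ^ p := le_trans (by norm_num) (Nat.pow_le_pow_right two_pos hp.two_le)
  have hnot : ∀ {n : ℕ}, n ∣ 2 ^ p - 1 → n ∣ 2 ^ p + 1 → n = 1 := fun {n} h1 h2 => by
    have : n ∣ 2 := by
      have := Nat.dvd_sub h2 h1
      rwa [show 2 ^ p + 1 - (2 ^ p - 1) = 2 by omega] at this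
    rcases (Nat.dvd_prime Nat.prime_two).1 this with h | h
    · exact h
    · subst h; omega
  by_cases hx : x = 1
  · subst hx
    exact ⟨fun h => by simp at h, fun h => absurd rfl h, fun h => absurd rfl h⟩
  have hne1 : orderOf x ≠ 1 := fun h => hx (orderOf_eq_one_iff.1 h)
  have hcard : ∀ X : S2 F, solCard (pmk X) = Nat.card {Y : S2 F // Solv X Y} := fun X => by
    rw [← solCard_mul_center, card_center_even, mul_one]
  rcases psl_cases x hx with ⟨g, b, hb, hg⟩ | ⟨g, a, ha, hg⟩ | ⟨X, hX, rfl⟩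
  · have ho : orderOf x ∣ 2 := by
      rw [← orderOf_conj' g x, hg]; exact orderOf_pmk_U_dvd 2 b
    have ho2 : orderOf x = 2 := ((Nat.dvd_prime Nat.prime_two).1 ho).resolve_left hne1
    refine ⟨fun _ => ?_, fun _ h => ?_, fun _ h => ?_⟩
    · rw [← solCard_conj g x, hg, hcard, card_solv_U_two hp hF hb, hF, mul_assoc]
    · rw [ho2] at h; omega
    · rw [ho2] at h; omega
  · have ho : orderOf x ∣ 2 ^ p - 1 := by
      rw [← orderOf_conj' g x, hg, ← hF]; exact orderOf_pmk_diag_dvd ha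
    have ho2 : orderOf x ≠ 2 := fun e => by rw [e] at ho; omega
    refine ⟨fun h => absurd h ho2, fun _ _ => ?_, fun _ h => absurd (hnot ho h) hne1⟩
    have hgx : g * x * g⁻¹ ≠ 1 := conj_eq_one_iff.not.2 hx
    have hX2 := sq_ne_one_of_orderOf hgx (by rw [orderOf_conj']; exact ho2)
    rw [hg] at hX2
    have h23 : (2 : ℕ) = 3 → pmk (diagS a) * pmk (diagS a) * pmk (diagS a) ≠ 1 :=
      fun e => absurd e (by norm_num)
    rw [← solCard_conj g x, hg, hcard, card_solv_diag (ℓ := 2) hp (Or.inl rfl) hF ha hX2 h23, hF,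
      mul_assoc]
  · have ho : orderOf (pmk X) ∣ 2 ^ p + 1 := hF ▸ orderOf_pmk_elliptic_dvd hX
    have ho2 : orderOf (pmk X) ≠ 2 := fun e => by rw [e] at ho; omega
    refine ⟨fun h => absurd h ho2, fun _ h => absurd (hnot h ho) hne1, fun _ _ => ?_⟩
    rw [hcard, card_solv_elliptic (ℓ := 2) hp (Or.inl rfl) hF hX (sq_ne_one_of_orderOf hx ho2)
      (fun e => absurd e (by norm_num)), hF]

theorem solubilizer_card_three {p : ℕ} (hp : p.Prime) (hodd : Odd p)
    (hF : Fintype.card F = 3 ^ p) (x : ProjectiveSpecialLinearGroup (Fin 2) F) :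
    (orderOf x = 2 → solCard x = 3 ^ p * (3 ^ p + 1)) ∧
    (orderOf x = 3 → 2 * solCard x = 3 ^ p * (3 ^ p + 5)) ∧
    (x ≠ 1 → orderOf x ≠ 2 → orderOf x ∣ 3 ^ p - 1 → solCard x = 3 ^ p * (3 ^ p - 1)) ∧
    (x ≠ 1 → orderOf x ≠ 2 → orderOf x ∣ 3 ^ p + 1 → solCard x = 3 ^ p + 1) := by
  haveI : Fact (Nat.Prime 3) := ⟨Nat.prime_three⟩
  haveI : CharP F 3 := charP_of_card_eq_prime_pow hF
  have h3 : 3 ∣ 3 ^ p := dvd_pow_self 3 hp.ne_zero
  have h4 : 3 ^ p % 4 = 3 := by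
    obtain ⟨k, rfl⟩ := hodd
    rw [pow_succ, pow_mul, Nat.mul_mod, Nat.pow_mod]; norm_num
  have hsq : ¬ IsSquare (-1 : F) := fun h => FiniteField.isSquare_neg_one_iff.1 h (hF ▸ h4)
  have hnot : ∀ {n : ℕ}, n ∣ 3 ^ p - 1 → n ∣ 3 ^ p + 1 → n = 1 ∨ n = 2 := fun {n} h1 h2 => by
    have : n ∣ 2 := by
      have := Nat.dvd_sub h2 h1
      rwa [show 3 ^ p + 1 - (3 ^ p - 1) = 2 by omega] at this
    exact (Nat.dvd_prime Nat.prime_two).1 this
  by_cases hx : x = 1
  · subst hx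
    exact ⟨fun h => by simp at h, fun h => by simp at h, fun h => absurd rfl h,
      fun h => absurd rfl h⟩
  have hne1 : orderOf x ≠ 1 := fun h => hx (orderOf_eq_one_iff.1 h)
  have hcard : ∀ X : S2 F, solCard (pmk X) * 2 = Nat.card {Y : S2 F // Solv X Y} := fun X => by
    rw [← solCard_mul_center, card_center_three]
  rcases psl_cases x hx with ⟨g, b, hb, hg⟩ | ⟨g, a, ha, hg⟩ | ⟨X, hX, rfl⟩
  · have ho : orderOf x ∣ 3 := by
      rw [← orderOf_conj' g x, hg]; exact orderOf_pmk_U_dvd 3 b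
    have ho3 : orderOf x = 3 := ((Nat.dvd_prime Nat.prime_three).1 ho).resolve_left hne1
    refine ⟨fun h => by omega, fun _ => ?_, fun _ _ h => ?_, fun _ _ h => ?_⟩
    · rw [← solCard_conj g x, hg, mul_comm, hcard, card_solv_U_three hp hodd hF hb, hF]
    · rw [ho3] at h; omega
    · rw [ho3] at h; omega
  · have ho : orderOf x ∣ 3 ^ p - 1 := by
      rw [← orderOf_conj' g x, hg, ← hF]; exact orderOf_pmk_diag_dvd ha
    have ho3 : orderOf x ≠ 3 := fun e => by rw [e] at ho; omega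
    have ho2 : orderOf x ≠ 2 := by
      intro e
      have h : pmk (diagS a) * pmk (diagS a) = 1 := by
        rw [← hg, show g * x * g⁻¹ * (g * x * g⁻¹) = g * (x * x) * g⁻¹ by group, ← sq,
          orderOf_dvd_iff_pow_eq_one.1 e.dvd, mul_one, mul_inv_cancel]
      rcases tr_zero_or_scalar h with ht | h1 | h1
      · apply hsq
        simp only [tr, diagS00, diagS11] at ht
        refine ⟨(a : F), ?_⟩
        have hu : (a : F) * ((a⁻¹ : Fˣ) : F) = 1 := a.mul_inv
        linear_combination (-(a : F)) * ht + hu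
      · exact nonScalar_diag (d := diagS a) rfl rfl ha (by rw [h1]; simp)
      · exact nonScalar_diag (d := diagS a) rfl rfl ha (by rw [h1]; simp)
    refine ⟨fun h => absurd h ho2, fun h => absurd h ho3, fun _ _ _ => ?_,
      fun _ _ h => absurd (hnot ho h) (not_or.2 ⟨hne1, ho2⟩)⟩
    have hgx : g * x * g⁻¹ ≠ 1 := conj_eq_one_iff.not.2 hx
    have hX2 := sq_ne_one_of_orderOf hgx (by rw [orderOf_conj']; exact ho2)
    have hX3 := cube_ne_one_of_orderOf hgx (by rw [orderOf_conj']; exact ho3)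
    rw [hg] at hX2 hX3
    have h := hcard (diagS a)
    rw [card_solv_diag (ℓ := 3) hp (Or.inr ⟨rfl, hodd⟩) hF ha hX2 (fun _ => hX3), hF] at h
    rw [← hg, solCard_conj] at h
    omega
  · have ho : orderOf (pmk X) ∣ 3 ^ p + 1 := hF ▸ orderOf_pmk_elliptic_dvd hX
    have ho3 : orderOf (pmk X) ≠ 3 := fun e => by rw [e] at ho; omega
    refine ⟨fun ho2 => ?_, fun h => absurd h ho3, fun _ ho2 h => absurd (hnot h ho) (not_or.2 ⟨hne1, ho2⟩),
      fun _ ho2 _ => ?_⟩
    · have ht : tr X = 0 := by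
        have h : pmk X * pmk X = 1 := by rw [← sq]; exact orderOf_dvd_iff_pow_eq_one.1 ho2.dvd
        rcases tr_zero_or_scalar h with ht | h1 | h1
        · exact ht
        · exact absurd (pmk_eq_one.2 (Or.inl h1)) hx
        · exact absurd (pmk_eq_one.2 (Or.inr h1)) hx
      obtain ⟨h, hh⟩ := exists_conj_SL (y := (weylS : S2 F)) hX (by rw [ht]; simp [tr])
      have hc : solCard (pmk X) = solCard (pmk (weylS : S2 F)) := by
        rw [← hh]; exact (solCard_conj (pmk h) (pmk X)).symm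
      rw [hc]
      have h' := hcard weylS
      rw [card_solv_weyl hp hodd hF hsq, hF] at h'
      omega
    · have h := hcard X
      rw [card_solv_elliptic (ℓ := 3) hp (Or.inr ⟨rfl, hodd⟩) hF hX (sq_ne_one_of_orderOf hx ho2)
        (fun _ => cube_ne_one_of_orderOf hx ho3), hF] at h
      omega

end CfsgLib.Core.Solubilizer
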