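import Cfsg.Agent.Lib.Core.Solubilizer.Criterion
import Cfsg.Agent.Lib.Classical.LinearOrder
import Cfsg.Agent.Lib.Known.SL2ClassSizes

/-!
# Pairs in `SL₂` generating solvable groups modulo the centre: the matrix conditions

`Solv X Y` : the images of `X, Y` in `PSL₂` generate a solvable group.
* `solv_U_two`, `solv_U_three`, `solv_diag`, `solv_elliptic`, `solv_weyl`: the exact conditions
-/

set_option autoImplicit false
set_option linter.all false

namespace CfsgLib.Core.Solubilizer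

open Subgroup Matrix CfsgLib.PLocal.SLTwo CfsgLib.SL2Char
open scoped LinearAlgebra.Projectivization MatrixGroups

variable {F : Type*} [Field F] [Fintype F]

/-- The quotient map to `PSL₂`. -/
abbrev pmk (X : S2 F) : ProjectiveSpecialLinearGroup (Fin 2) F := QuotientGroup.mk X

/-- The images in `PSL₂` generate a solvable group. -/
def Solv (X Y : S2 F) : Prop :=
  Group.IsSolvable (closure ({pmk X, pmk Y} : Set (ProjectiveSpecialLinearGroup (Fin 2) F)))

theorem pmk_mul (X Y : S2 F) : pmk (X * Y) = pmk X * pmk Y := rfl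

theorem pmk_eq_iff {X Y : S2 F} : pmk X = pmk Y ↔ Y = X ∨ Y = -X := by
  rw [QuotientGroup.eq, CfsgLib.Known.SL2ClassSizes.mem_center_iff']
  rw [inv_mul_eq_iff_eq_mul, inv_mul_eq_iff_eq_mul, mul_one, mul_neg, mul_one]

theorem pmk_eq_one {X : S2 F} : pmk X = 1 ↔ X = 1 ∨ X = -1 := by
  rw [show (1 : ProjectiveSpecialLinearGroup (Fin 2) F) = pmk 1 from rfl, eq_comm, pmk_eq_iff]

theorem pmk_sq_eq_one {X : S2 F} : pmk X * pmk X = 1 ↔ X * X = 1 ∨ X * X = -1 := by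
  rw [← pmk_mul, pmk_eq_one]

/-- Cayley-Hamilton. -/
theorem mul_self_entries (Z : S2 F) :
    (Z * Z).1 0 0 = tr Z * Z.1 0 0 - 1 ∧ (Z * Z).1 0 1 = tr Z * Z.1 0 1 ∧
      (Z * Z).1 1 0 = tr Z * Z.1 1 0 ∧ (Z * Z).1 1 1 = tr Z * Z.1 1 1 - 1 := by
  have := det2 Z
  simp only [m00, m01, m10, m11, tr]
  refine ⟨?_, ?_, ?_, ?_⟩
  · linear_combination -this
  · ring
  · ring
  · linear_combination -this

theorem mul_self_eq_neg_one {Z : S2 F} (h : tr Z = 0) : Z * Z = -1 := by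
  obtain ⟨h1, h2, h3, h4⟩ := mul_self_entries Z
  rw [h] at h1 h2 h3 h4
  refine ext2 ?_ ?_ ?_ ?_ <;> simp_all

theorem tr_zero_or_scalar {Z : S2 F} (h : pmk Z * pmk Z = 1) : tr Z = 0 ∨ Z = 1 ∨ Z = -1 := by
  by_cases ht : tr Z = 0
  · exact Or.inl ht
  right
  obtain ⟨h1, h2, h3, h4⟩ := mul_self_entries Z
  refine scalar_cases (fun hns => hns ?_)
  rcases pmk_sq_eq_one.1 h with e | e <;> rw [e] at h1 h2 h3 h4 <;> simp at h1 h2 h3 h4 <;>
    refine ⟨(by tauto : Z.1 0 1 = 0), (by tauto : Z.1 1 0 = 0), mul_left_cancel₀ ht ?_⟩ <;>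
    linear_combination h4 - h1

theorem pmk_sq_of_tr {Z : S2 F} (h : tr Z = 0) : pmk Z * pmk Z = 1 :=
  pmk_sq_eq_one.2 (Or.inr (mul_self_eq_neg_one h))

theorem cube_entries (Z : S2 F) :
    (Z * Z * Z).1 0 0 = (tr Z ^ 2 - 1) * Z.1 0 0 - tr Z ∧
      (Z * Z * Z).1 0 1 = (tr Z ^ 2 - 1) * Z.1 0 1 ∧
      (Z * Z * Z).1 1 0 = (tr Z ^ 2 - 1) * Z.1 1 0 ∧
      (Z * Z * Z).1 1 1 = (tr Z ^ 2 - 1) * Z.1 1 1 - tr Z := by
  have := det2 Z
  obtain ⟨h1, h2, h3, h4⟩ := mul_self_entries Z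
  simp only [m00 (Z * Z), m01 (Z * Z), m10 (Z * Z), m11 (Z * Z), h1, h2, h3, h4]
  simp only [tr] at *
  refine ⟨?_, ?_, ?_, ?_⟩
  · linear_combination (-(Z.1 0 0 + Z.1 1 1)) * this
  · ring
  · ring
  · linear_combination (-(Z.1 0 0 + Z.1 1 1)) * this

theorem pmk_cube_of_tr {Z : S2 F} (h : tr Z = 1 ∨ tr Z = -1) :
    pmk Z * pmk Z * pmk Z = 1 := by
  rw [← pmk_mul, ← pmk_mul, pmk_eq_one]
  obtain ⟨h1, h2, h3, h4⟩ := cube_entries Z
  rcases h with e | e <;> rw [e] at h1 h2 h3 h4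
  · right; refine ext2 ?_ ?_ ?_ ?_ <;> simp_all
  · left; refine ext2 ?_ ?_ ?_ ?_ <;> simp_all

theorem tr_or_scalar_of_cube [CharP F 3] {Z : S2 F} (h : pmk Z * pmk Z * pmk Z = 1) :
    (tr Z = 1 ∨ tr Z = -1) ∨ Z = 1 ∨ Z = -1 := by
  by_cases ht : tr Z = 1 ∨ tr Z = -1
  · exact Or.inl ht
  right
  have ht' : tr Z ^ 2 - 1 ≠ 0 := fun e => ht (sq_eq_one_iff.1 (sub_eq_zero.1 e))
  obtain ⟨h1, h2, h3, h4⟩ := cube_entries Z
  rw [← pmk_mul, ← pmk_mul] at h
  refine scalar_cases (fun hns => hns ?_)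
  rcases pmk_eq_one.1 h with e | e <;> rw [e] at h1 h2 h3 h4 <;> simp at h1 h2 h3 h4 <;>
    refine ⟨(by tauto : Z.1 0 1 = 0), (by tauto : Z.1 1 0 = 0), mul_left_cancel₀ ht' ?_⟩ <;>
    linear_combination h4 - h1

/-! ### Fixed points and Borel subgroups -/

theorem exists_common_eigen {X Y : S2 F}
    (h : ∃ pt : ℙ F (Fin 2 → F), pmk X • pt = pt ∧ pmk Y • pt = pt) :
    ∃ (v : Fin 2 → F) (μ ν : F), v ≠ 0 ∧ X.1 *ᵥ v = μ • v ∧ Y.1 *ᵥ v = ν • v := by
  obtain ⟨pt, h1, h2⟩ := h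
  induction pt using Projectivization.ind with | _ v hv =>
  rw [ProjectiveSpecialLinearGroup.smul_proj_mk, Projectivization.smul_mk,
    Projectivization.mk_eq_mk_iff'] at h1 h2
  obtain ⟨μ, hμ⟩ := h1
  obtain ⟨ν, hν⟩ := h2
  exact ⟨v, μ, ν, hv, hμ.symm, hν.symm⟩

/-- Upper triangular matrices. -/
def upperTri : Subgroup (S2 F) where
  carrier := {X | X.1 1 0 = 0}
  mul_mem' := fun {x y} hx hy => by
    simp only [Set.mem_setOf_eq] at hx hy ⊢
    rw [m10, hx, hy, zero_mul, mul_zero, add_zero]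
  one_mem' := by simp
  inv_mem' := fun {x} hx => by
    simp only [Set.mem_setOf_eq] at hx ⊢
    rw [i10, hx, neg_zero]

theorem mem_upperTri {X : S2 F} : X ∈ upperTri ↔ X.1 1 0 = 0 := Iff.rfl

theorem isSolvable_upperTri : Group.IsSolvable (upperTri : Subgroup (S2 F)) := by
  let f : (upperTri : Subgroup (S2 F)) →* F :=
    { toFun := fun X => X.1.1 0 0
      map_one' := by simp
      map_mul' := fun x y => by
        simp only [Subgroup.coe_mul]
        rw [m00, mem_upperTri.1 y.2, mul_zero, add_zero] }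
  refine isSolvable_of_comm_range_ker f.toHomUnits (fun a b => mul_comm _ _) fun a ha b hb => ?_
  have key : ∀ x : (upperTri : Subgroup (S2 F)), x ∈ f.toHomUnits.ker →
      x.1.1 0 0 = 1 ∧ x.1.1 1 0 = 0 ∧ x.1.1 1 1 = 1 := by
    intro x hx
    have h0 : x.1.1 0 0 = 1 := congrArg Units.val hx
    have hd := det2 x.1
    rw [h0, mem_upperTri.1 x.2] at hd
    exact ⟨h0, x.2, by linear_combination hd⟩
  obtain ⟨a1, a2, a3⟩ := key a ha
  obtain ⟨b1, b2, b3⟩ := key b hb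
  refine Subtype.ext (ext2 ?_ ?_ ?_ ?_) <;>
    simp only [Subgroup.coe_mul, m00, m01, m10, m11, a1, a2, a3, b1, b2, b3] <;> ring

theorem solv_of_upper {X Y : S2 F} (hX : X.1 1 0 = 0) (hY : Y.1 1 0 = 0) : Solv X Y := by
  haveI := isSolvable_upperTri (F := F)
  haveI : Group.IsSolvable
      ((upperTri : Subgroup (S2 F)).map (QuotientGroup.mk' (center (S2 F)))) :=
    Group.isSolvable_of_surjective ((QuotientGroup.mk' (center (S2 F))).subgroupMap_surjective _)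
  exact Group.isSolvable_of_isSolvable_injective
    (Subgroup.inclusion_injective (closure_pair_le (K := (upperTri : Subgroup (S2 F)).map
      (QuotientGroup.mk' (center (S2 F)))) ⟨X, hX, rfl⟩ ⟨Y, hY, rfl⟩))

theorem isSolvable_closure_conj {G : Type*} [Group G] (g x y : G)
    (h : Group.IsSolvable (closure ({x, y} : Set G))) :
    Group.IsSolvable (closure ({g * x * g⁻¹, g * y * g⁻¹} : Set G)) := by
  haveI := h
  have e : (closure ({x, y} : Set G)).map (MulAut.conj g).toMonoidHom =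
      closure ({g * x * g⁻¹, g * y * g⁻¹} : Set G) := by
    rw [MonoidHom.map_closure, Set.image_pair]
    rfl
  rw [← e]
  exact Group.isSolvable_of_surjective ((MulAut.conj g).toMonoidHom.subgroupMap_surjective _)

theorem solv_conj {X Y : S2 F} (h : S2 F) (hs : Solv X Y) :
    Solv (h * X * h⁻¹) (h * Y * h⁻¹) :=
  isSolvable_closure_conj (pmk h) (pmk X) (pmk Y) hs

theorem solv_conj_iff {X Y : S2 F} (h : S2 F) :
    Solv (h * X * h⁻¹) (h * Y * h⁻¹) ↔ Solv X Y := by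
  refine ⟨fun hs => ?_, solv_conj h⟩
  have := solv_conj h⁻¹ hs
  simpa [mul_assoc] using this

theorem solv_of_lower {X Y : S2 F} (hX : X.1 0 1 = 0) (hY : Y.1 0 1 = 0) : Solv X Y := by
  rw [← solv_conj_iff weylS]
  refine solv_of_upper ?_ ?_ <;> simp [m10, m11, m00, m01, i00, i01, i10, i11, hX, hY]

theorem solv_of_involutions {X Y : S2 F}
    (h : (pmk X * pmk X = 1 ∧ pmk Y * pmk Y = 1) ∨
      (pmk X * pmk X = 1 ∧ pmk X * pmk Y * (pmk X * pmk Y) = 1) ∨
      (pmk Y * pmk Y = 1 ∧ pmk X * pmk Y * (pmk X * pmk Y) = 1)) : Solv X Y := by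
  unfold Solv
  rcases h with ⟨h1, h2⟩ | ⟨h1, h2⟩ | ⟨h1, h2⟩
  · exact isSolvable_closure_pair_of_involutions h1 h2
  · refine isSolvable_closure_of_mem (isSolvable_closure_pair_of_involutions h1 h2) ?_ ?_
    · exact subset_closure (Set.mem_insert _ _)
    · have := mul_mem (inv_mem (subset_closure (Set.mem_insert (pmk X) {pmk X * pmk Y})))
        (subset_closure (Set.mem_insert_of_mem (pmk X) (Set.mem_singleton (pmk X * pmk Y))))
      simpa using this
  · refine isSolvable_closure_of_mem (isSolvable_closure_pair_of_involutions h1 h2) ?_ ?_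
    · have := mul_mem (subset_closure (Set.mem_insert_of_mem (pmk Y) (Set.mem_singleton (pmk X * pmk Y))))
        (inv_mem (subset_closure (Set.mem_insert (pmk Y) {pmk X * pmk Y})))
      simpa using this
    · exact subset_closure (Set.mem_insert _ _)

theorem solv_of_commute {X Y : S2 F} (h : X * Y = Y * X) : Solv X Y := by
  refine isSolvable_closure_pair_of_conj_mem ?_
  have e : pmk Y * pmk X * (pmk Y)⁻¹ = pmk X := by
    rw [← pmk_mul, ← h, pmk_mul, mul_inv_cancel_right]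
  rw [e]
  exact mem_zpowers _

theorem solv_of_inverting {X Y : S2 F} (h : Y * X * Y⁻¹ = X⁻¹) : Solv X Y := by
  refine isSolvable_closure_pair_of_conj_mem ?_
  have e : pmk Y * pmk X * (pmk Y)⁻¹ = (pmk X)⁻¹ := congrArg pmk h
  rw [e]
  exact inv_mem (mem_zpowers _)

/-- The three orders at most three. -/
theorem solv_of_tetra [CharP F 3] {X Y : S2 F} (hs : tr Y = 0 ∨ tr Y = 1 ∨ tr Y = -1)
    (ht : tr (X * Y) = 0 ∨ tr (X * Y) = 1 ∨ tr (X * Y) = -1)
    (hX : tr X = 0 ∨ (tr X = 1 ∨ tr X = -1) ∧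
      (tr Y = 0 ∨ tr (X * Y) = 0 ∨ tr (X * Y⁻¹) = 0)) : Solv X Y := by
  have mem1 : ∀ a b : ProjectiveSpecialLinearGroup (Fin 2) F, a ∈ closure ({a, b} : Set _) :=
    fun a b => subset_closure (Set.mem_insert _ _)
  have mem2 : ∀ a b : ProjectiveSpecialLinearGroup (Fin 2) F, b ∈ closure ({a, b} : Set _) :=
    fun a b => subset_closure (Set.mem_insert_of_mem _ (Set.mem_singleton _))
  rcases hX with hX | ⟨hX, hor⟩
  · rcases hs with hs | hs
    · exact solv_of_involutions (Or.inl ⟨pmk_sq_of_tr hX, pmk_sq_of_tr hs⟩)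
    rcases ht with ht | ht
    · exact solv_of_involutions (Or.inr (Or.inl ⟨pmk_sq_of_tr hX, pmk_sq_of_tr ht⟩))
    exact isSolvable_closure_pair_of_tetrahedral (pmk_sq_of_tr hX) (pmk_cube_of_tr hs)
      (pmk_cube_of_tr ht)
  have caseY : tr Y = 0 → Solv X Y := fun hs => by
    rcases ht with ht | ht
    · exact solv_of_involutions (Or.inr (Or.inr ⟨pmk_sq_of_tr hs, pmk_sq_of_tr ht⟩))
    have hc : tr (Y * X) = tr (X * Y) := by
      simp only [tr, m00, m11]; ring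
    exact isSolvable_closure_of_mem
      (isSolvable_closure_pair_of_tetrahedral (pmk_sq_of_tr hs) (pmk_cube_of_tr hX)
        (pmk_cube_of_tr (hc ▸ ht) : pmk (Y * X) * pmk (Y * X) * pmk (Y * X) = 1))
      (mem2 _ _) (mem1 _ _)
  rcases hs with hs | hs
  · exact caseY hs
  rcases hor with h0 | ht | hz
  · exact caseY h0
  · -- `a = xy`, `b = x⁻¹`
    have hXi : tr X⁻¹ = 1 ∨ tr X⁻¹ = -1 := by rwa [CfsgLib.Known.SL2ClassSizes.tr_inv]
    have hab : tr (X * Y * X⁻¹) = 1 ∨ tr (X * Y * X⁻¹) = -1 := by rwa [tr_conj]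
    refine isSolvable_closure_of_mem
      (isSolvable_closure_pair_of_tetrahedral (pmk_sq_of_tr ht) (pmk_cube_of_tr hXi)
        (pmk_cube_of_tr hab : pmk (X * Y * X⁻¹) * pmk (X * Y * X⁻¹) * pmk (X * Y * X⁻¹) = 1)) ?_ ?_
    · have := inv_mem (mem2 (pmk (X * Y)) (pmk X⁻¹))
      simpa [← QuotientGroup.mk_inv] using this
    · have := mul_mem (mem2 (pmk (X * Y)) (pmk X⁻¹)) (mem1 (pmk (X * Y)) (pmk X⁻¹))
      rw [← pmk_mul, show X⁻¹ * (X * Y) = Y by group] at this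
      exact this
  · have hab : pmk (X * Y⁻¹ * Y) * pmk (X * Y⁻¹ * Y) * pmk (X * Y⁻¹ * Y) = 1 := by
      rw [inv_mul_cancel_right]; exact pmk_cube_of_tr hX
    refine isSolvable_closure_of_mem
      (isSolvable_closure_pair_of_tetrahedral (pmk_sq_of_tr hz) (pmk_cube_of_tr hs) hab) ?_
      (mem2 _ _)
    have := mul_mem (mem1 (pmk (X * Y⁻¹)) (pmk Y)) (mem2 (pmk (X * Y⁻¹)) (pmk Y))
    rw [← pmk_mul, inv_mul_cancel_right] at this
    exact this

end CfsgLib.Core.Solubilizer
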